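import Groth.Agent.Lib.AlgSt.DescFamily
import Groth.Agent.Lib.Stk.Gerbe
import Groth.Agent.Lib.FibCat.Yoneda

/-!
# Lifting charts and local surjectivity on objects
-/

set_option backward.isDefEq.respectTransparency false
set_option backward.isDefEq.respectTransparency.types false

universe u

open CategoryTheory CategoryTheory.Limits AlgebraicGeometry Opposite

namespace GrothLib.AlgSt

open _root_.AlgSt GrothLib.FibCat

variable {S : Scheme.{u}} {𝒳 𝒴 𝒵 : _root_.AlgSt.Cat S}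

/-- A lift of the value of a chart gives a lift of the chart. -/
theorem exists_lift_of_obj (h𝒳 : _root_.FibCat.IsFibGrpd 𝒳.p) (h𝒴 : _root_.FibCat.IsFibGrpd 𝒴.p) (f : 𝒳 ⥤ᵇ 𝒴)
    {U V : Over S} (y : _root_.FibCat.overCat U ⥤ᵇ 𝒴) (c : V ⟶ U) (x : 𝒳.obj)
    (g : f.obj x ⟶ y.obj (Yon.idObj U)) (hg : 𝒴.p.IsHomLift c g) :
    ∃ l : _root_.FibCat.overCat V ⥤ᵇ 𝒳,
      Nonempty (BasedFunctor.comp (GrothLib.FibCat.overMap c) y ≅ BasedFunctor.comp l f) := by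
  have hx : 𝒳.p.obj x = V := (f.w_obj x).symm.trans (IsHomLift.domain_eq 𝒴.p c g)
  obtain ⟨l, e, he⟩ := Yon.exists_functor h𝒳 x hx
  let a := (GrothLib.FibCat.overMap c).obj (Yon.idObj V)
  have ha : a.hom = c := Category.id_comp c
  have h1 : 𝒴.p.IsHomLift c (y.map (Yon.toId a)) := by
    have : (_root_.FibCat.overCat U).p.IsHomLift c (Yon.toId a) := by
      have := Yon.toId_lift a
      rw [ha] at this
      exact this
    exact BasedFunctor.preserves_isHomLift y _ _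
  have h2 : 𝒴.p.IsHomLift c (f.map e.hom ≫ g) := by
    have := he
    exact IsHomLift.comp_lift_id_left' 𝒴.p V _ c _
  obtain ⟨θ, hθ, -⟩ := IsFibGrpd.exists_iso_of_lifts h𝒴 c (f.map e.hom ≫ g) (y.map (Yon.toId a))
  exact ⟨l, ⟨Yon.isoOfIdObj h𝒴 (G := BasedFunctor.comp (GrothLib.FibCat.overMap c) y)
    (H := BasedFunctor.comp l f) θ hθ⟩⟩

/-- Fppf liftable charts give local surjectivity on objects. -/
theorem locSurjObj_of_liftsFppf (h𝒴 : _root_.FibCat.IsFibGrpd 𝒴.p)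
    {z : 𝒵 ⥤ᵇ 𝒴} (hz : LiftsFppf z) : Gerb.LocSurjObj (AlgSp.J S) z := by
  intro a
  obtain ⟨y, j, hj⟩ := Yon.exists_functor h𝒴 a rfl
  obtain ⟨V, c, l, h1, h2, h3, ⟨i⟩⟩ := hz (𝒴.p.obj a) y
  refine ⟨Sieve.ofArrows (fun _ : PUnit.{u + 1} => V) (fun _ => c),
    GrothLib.AlgSp.ofArrows_mem _ _ (fun _ => h1) (fun _ => h2)
      (fun x => ⟨PUnit.unit, h3.surj x⟩), fun W f hf => ?_⟩
  obtain ⟨_, d, _, ⟨⟨⟩⟩, rfl⟩ := hf
  let o : (_root_.FibCat.overCat V).obj := Over.mk d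
  let o' := (GrothLib.FibCat.overMap c).obj o
  have h4 : 𝒴.p.IsHomLift (d ≫ c) (y.map (Yon.toId o')) := by
    have : (_root_.FibCat.overCat (𝒴.p.obj a)).p.IsHomLift (d ≫ c) (Yon.toId o') := Yon.toId_lift o'
    exact BasedFunctor.preserves_isHomLift y _ _
  have h5 : 𝒴.p.IsHomLift (𝟙 W) (GrothLib.FibCat.isoApp i o).inv := by
    have : 𝒴.p.IsHomLift (𝟙 W) (GrothLib.FibCat.isoApp i o).hom := isHomLift_isoApp i rfl
    exact isHomLift_id_inv 𝒴.p (R := W) _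
  have h6 : 𝒴.p.IsHomLift (d ≫ c) (y.map (Yon.toId o') ≫ j.hom) :=
    IsHomLift.comp_lift_id_right' 𝒴.p (d ≫ c) _ (𝒴.p.obj a) _
  exact ⟨l.obj o, (GrothLib.FibCat.isoApp i o).inv ≫ y.map (Yon.toId o') ≫ j.hom,
    IsHomLift.comp_lift_id_left' 𝒴.p W _ (d ≫ c) _⟩

/-- Local surjectivity of the diagonal on objects gives local lifting of morphisms. -/
theorem locSurjHom_of_diag (h𝒴 : _root_.FibCat.IsFibGrpd 𝒴.p)
    {f : 𝒳 ⥤ᵇ 𝒴} (h : Gerb.LocSurjObj (AlgSp.J S) (_root_.FibCat.diag f)) :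
    Gerb.LocSurjHom (AlgSp.J S) f := by
  intro x x' b hb
  have : IsIso b := IsFibGrpd.isIso_of_isHomLift_id h𝒴 (R := 𝒳.p.obj x) b
  let o : (_root_.FibCat.fp f f).obj := Fp.mk x x' (asIso b) hb
  obtain ⟨R, hR, hl⟩ := h o
  refine ⟨R, hR, fun V d hd => ?_⟩
  obtain ⟨x₀, m, hm⟩ := hl d hd
  refine ⟨x₀, m.hom.fst, m.hom.snd, (Fp.isHomLift_iff m d).1 hm, Fp.isHomLift_snd m d hm, ?_⟩
  exact (Fp.w m).trans (Category.id_comp _)

/-- The gerbe property descends along morphisms with fppf liftable charts. -/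
theorem isGerbeOver_of_fpFst_of_liftsFppf (h𝒳 : _root_.FibCat.IsFibGrpd 𝒳.p) (h𝒴 : _root_.FibCat.IsFibGrpd 𝒴.p)
    (h𝒵 : _root_.FibCat.IsFibGrpd 𝒵.p) {f : 𝒳 ⥤ᵇ 𝒴} {g : 𝒵 ⥤ᵇ 𝒴} (hg : LiftsFppf g)
    (h : Gerb.IsGerbeOver (AlgSp.J S) (_root_.FibCat.fpFst g f)) : Gerb.IsGerbeOver (AlgSp.J S) f :=
  GrothLib.Stk.Gerbe.isGerbeOver_of_isTwoCartOver_of_locSurjObj (_root_.FibCat.fpIso g f) h𝒳 h𝒴 h𝒵
    (show _root_.FibCat.IsEquivOver (BasedFunctor.id (_root_.FibCat.fp g f)) from IsEquivOver.refl _)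
    (locSurjObj_of_liftsFppf h𝒴 hg) h

end GrothLib.AlgSt
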