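import Groth.Agent.Lib.AlgSt.Gerbe.OfStackSection
import Groth.Agent.Lib.AlgSt.Gerbe.Lifting
import Groth.Agent.Lib.AlgSt.DiagPoints

/-!
# A gerbe is smooth, surjective and injective on points
-/

set_option backward.isDefEq.respectTransparency false
set_option backward.isDefEq.respectTransparency.types false

universe u

open CategoryTheory CategoryTheory.Limits AlgebraicGeometry Opposite

namespace GrothLib.AlgSt.Section

open _root_.AlgSt GrothLib.FibCat GrothLib.AlgSt GrothLib.AlgSp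

variable {S : Scheme.{u}} {𝒳 𝒴 : _root_.AlgSt.Cat S}

theorem isSmoothLocalST_smooth : AlgSp.IsSmoothLocalST (AlgSp.LocP (S := S) @Smooth) :=
  isSmoothLocalST_locP EtLocal.smooth (fun _ _ g (hg : Smooth g) => hg)
    fun _ _ _ c f hc hs h => GrothLib.FppfSource.fppfSourceDescends_smooth c f
      (have := hc; inferInstance) (have := hc; inferInstance) hs h

/-- A gerbe over a scheme with a section is smooth. -/
theorem locQ_of_section {V : Over S} {𝒲 : _root_.AlgSt.Cat S} (h𝒲 : IsAlgStack Scheme.fppfPrecoverage 𝒲)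
    (π : 𝒲 ⥤ᵇ _root_.FibCat.overCat V) (hπ : Gerb.IsGerbeOver (AlgSp.J S) π) (s : _root_.FibCat.overCat V ⥤ᵇ 𝒲)
    (e : BasedFunctor.comp s π ≅ BasedFunctor.id _) :
    LocQ (AlgSp.LocP @Flat) π ∧ LocQ (AlgSp.LocP @LocallyOfFinitePresentation) π ∧
      LocQ (AlgSp.LocP @Smooth) π := by
  have hV : IsAlgStack Scheme.fppfPrecoverage (_root_.FibCat.overCat V) :=
    (isDM_of_repByAlgSp (repByAlgSp_overCat V)).1
  obtain ⟨hfl, hfp, hsu⟩ := section_props hV h𝒲 π hπ s e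
  have hss : IsSurjective s := (isSurjective_iff_repByAlgSpWith hV.isStack.1 h𝒲.isStack.1 s
    (repByAlgSp1_of_repByAlgSpWith hfl)).2 hsu
  obtain ⟨A, B, D, a, b, hsurj, hm, -, hg⟩ := exists_comp_square hV h𝒲 hV s π
  have : Surjective a.left := hsurj hss
  have : Flat a.left := left_of_locP_yon ((hm isSmoothLocalST_flat).1
    (locQ_of_repByAlgSpWith isSmoothLocalST_flat h𝒲 hfl))
  have : LocallyOfFinitePresentation a.left := left_of_locP_yon ((hm isSmoothLocalST_lfp).1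
    (locQ_of_repByAlgSpWith isSmoothLocalST_lfp h𝒲 hfp))
  have hid : RepByAlgSpWith (AlgSp.LocP @Smooth) (BasedFunctor.comp s π) :=
    repByAlgSpWith_of_iso e.symm (SmoothSurj.isEquivOver _ (IsEquivOver.refl _)).1
  have hab : Smooth (a.left ≫ b.left) := by
    have := left_of_locP_yon ((hm isSmoothLocalST_smooth).2.2 (locQ_of_repByAlgSpWith isSmoothLocalST_smooth hV hid))
    rwa [Over.comp_left] at this
  have hb : Smooth b.left := GrothLib.FppfSource.fppfSourceDescends_smooth a.left b.left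
    inferInstance inferInstance inferInstance hab
  exact ⟨hg (locP_yon_of_left EtLocal.flat (have := hb; inferInstance)),
    hg (locP_yon_of_left EtLocal.lfp (have := hb; inferInstance)), hg (locP_yon_of_left EtLocal.smooth hb)⟩

/-- Base change of a chart square to a scheme mapping to its base. -/
theorem mem_fst_of_locQ (h𝒳 : IsAlgStack Scheme.fppfPrecoverage 𝒳) (h𝒴 : IsAlgStack Scheme.fppfPrecoverage 𝒴)
    {f : 𝒳 ⥤ᵇ 𝒴} {U V R : Over S} (y : _root_.FibCat.overCat V ⥤ᵇ 𝒴)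
    {l : _root_.FibCat.overCat U ⥤ᵇ _root_.FibCat.fp f y} (hl : SmoothSurj l) {h : U ⟶ V}
    (β : BasedFunctor.comp l (_root_.FibCat.fpSnd f y) ≅ _root_.AlgSt.overMap h) (c : R ⟶ V)
    {P : MorphismProperty (AlgSp.Sp S)} (hP : AlgSp.IsSmoothLocalST P)
    (hq : LocQ P (_root_.FibCat.fpFst (BasedFunctor.comp (_root_.AlgSt.overMap c) y) f)) :
    P ((AlgSp.yon S).map (pullback.fst c h)) := by
  let cm := (AlgSp.yon S).map c
  let hm := (AlgSp.yon S).map h
  have sq : IsPullback ((AlgSp.yon S).map (pullback.fst c h)) ((AlgSp.yon S).map (pullback.snd c h)) cm hm :=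
    GrothLib.AlgSp.isPullback_yon (IsPullback.of_hasPullback c h)
  obtain ⟨ic⟩ := iso_toOverCat_overMap c
  obtain ⟨ih⟩ := iso_toOverCat_overMap h
  have := IsEquivOver.full (isEquivOver_toOverCat V)
  have := IsEquivOver.faithful (isEquivOver_toOverCat V)
  let E := BasedFunctor.comp (ofOverCat (pullback c h)) (BasedFunctor.comp (spToFp sq.w)
    (Fp.map (F := ofSpMap cm) (G := ofSpMap hm) (toOverCat R) (toOverCat U) (toOverCat V) ic ih))
  have hE : _root_.FibCat.IsEquivOver E := IsEquivOver.comp (isEquivOver_ofOverCat _)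
    (IsEquivOver.comp (isEquivOver_spToFp sq)
      (Fp.isEquivOver_map _ _ _ _ _ (isEquivOver_toOverCat R) (isEquivOver_toOverCat U)))
  let π := _root_.FibCat.fpFst y f
  let E₁ := Fp.congr (Iso.refl (_root_.AlgSt.overMap c))
    (show _root_.AlgSt.overMap h ≅ BasedFunctor.comp (BasedFunctor.comp l (Fp.symm f y)) π from β.symm)
  let M := rightMap (BasedFunctor.comp l (Fp.symm f y)) (_root_.AlgSt.overMap c) π
  let z := BasedFunctor.comp (_root_.AlgSt.overMap c) y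
  let v := BasedFunctor.id (_root_.FibCat.overCat R)
  obtain ⟨P', hP', -, ⟨ε⟩⟩ := IsEquivOver.symm (Fp.isEquivOver_paste f z v)
  let E₃ := BasedFunctor.comp P' (Fp.symm v (_root_.FibCat.fpFst z f))
  let γ : BasedFunctor.comp (_root_.AlgSt.overMap c) y ≅ BasedFunctor.comp v z := Iso.refl z
  let E₂ := BasedFunctor.comp (Fp.paste f y (_root_.AlgSt.overMap c)) (Fp.congr γ (Iso.refl f))
  let l' := BasedFunctor.comp (BasedFunctor.comp (BasedFunctor.comp E E₁) M) (BasedFunctor.comp E₂ E₃)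
  have hl' : RepByAlgSpWith (AlgSp.LocP @Smooth) l' :=
    repByAlgSpWith_comp_equiv _ (IsEquivOver.comp
        (IsEquivOver.comp (Fp.isEquivOver_paste _ _ _) (Fp.isEquivOver_congr _ _))
        (IsEquivOver.comp hP' (Fp.isEquivOver_symm _ _)))
      (repByAlgSpWith_equiv_comp _ (IsEquivOver.comp hE (Fp.isEquivOver_congr _ _))
        (repByAlgSpWith_rightMap (repByAlgSpWith_comp_equiv _ (Fp.isEquivOver_symm f y) hl.1) _ _))
  let ib : BasedFunctor.comp P' (_root_.FibCat.fpFst v (_root_.FibCat.fpFst z f)) ≅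
      _root_.FibCat.fpFst (BasedFunctor.comp v z) f :=
    whiskerRightIso ε (_root_.FibCat.fpFst (BasedFunctor.comp v z) f)
  obtain ⟨i₀⟩ := iso_toOverCat_overMap (pullback.fst c h)
  let β' : BasedFunctor.comp l' (_root_.FibCat.fpSnd (_root_.FibCat.fpFst z f) v) ≅
      _root_.AlgSt.overMap (pullback.fst c h) :=
    whiskerLeftIso (BasedFunctor.comp (BasedFunctor.comp (BasedFunctor.comp E E₁) M) E₂) ib ≪≫
      whiskerLeftIso (ofOverCat (pullback c h)) i₀.symm ≪≫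
      whiskerRightIso (ofOverCatCompIso (pullback c h)) (_root_.AlgSt.overMap (pullback.fst c h))
  exact mem_of_locQ hP hq
    (isAlgStack_fp h𝒴.isStack h𝒴.diag (isDM_of_repByAlgSp (repByAlgSp_overCat R)).1 h𝒳 z f)
    (isDM_of_repByAlgSp (repByAlgSp_overCat R)).1 v (SmoothSurj.isEquivOver v (IsEquivOver.refl _)).1 l' hl' _ β'

/-- A gerbe is flat, locally of finite presentation and smooth. -/
theorem locQ_props (h𝒳 : IsAlgStack Scheme.fppfPrecoverage 𝒳) (h𝒴 : IsAlgStack Scheme.fppfPrecoverage 𝒴)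
    (f : 𝒳 ⥤ᵇ 𝒴) (hf : Gerb.IsGerbeOver (AlgSp.J S) f) :
    LocQ (AlgSp.LocP @Flat) f ∧ LocQ (AlgSp.LocP @LocallyOfFinitePresentation) f ∧
      LocQ (AlgSp.LocP @Smooth) f := by
  obtain ⟨V, y, hy, hys⟩ := h𝒴.atlas
  obtain ⟨U, l, h, hl, ⟨β⟩, hx, hxs, -⟩ := exists_atlas_over h𝒳 h𝒴 f y
  obtain ⟨R, hR, hlift⟩ := GrothLib.Stk.exists_local_lift f hf.1 (y.obj (Yon.idObj V)) (y.w_obj (Yon.idObj V))
  obtain ⟨W, c, hc, h1, h2, h3⟩ := exists_family_of_mem_J hR
  have key : ∀ i, LocQ (AlgSp.LocP @Flat) (_root_.FibCat.fpFst (BasedFunctor.comp (_root_.AlgSt.overMap (c i)) y) f) ∧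
      LocQ (AlgSp.LocP @LocallyOfFinitePresentation)
        (_root_.FibCat.fpFst (BasedFunctor.comp (_root_.AlgSt.overMap (c i)) y) f) ∧
      LocQ (AlgSp.LocP @Smooth) (_root_.FibCat.fpFst (BasedFunctor.comp (_root_.AlgSt.overMap (c i)) y) f) := by
    intro i
    obtain ⟨x, g, hg⟩ := hlift (c i) (hc i)
    obtain ⟨k, ⟨j⟩⟩ := exists_lift_of_obj h𝒳.isStack.1 h𝒴.isStack.1 f y (c i) x g hg
    let z := BasedFunctor.comp (_root_.AlgSt.overMap (c i)) y
    exact locQ_of_section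
      (isAlgStack_fp h𝒴.isStack h𝒴.diag (isDM_of_repByAlgSp (repByAlgSp_overCat (W i))).1 h𝒳 z f) _
      (GrothLib.Stk.Gerbe.isGerbeOver_fpFst f z h𝒴.isStack.1 (isFibGrpd_overCat _) hf)
      (_root_.FibCat.fpLift (F := z) (G := f) (BasedFunctor.id _) k j) (Iso.refl _)
  have hcov : AlgSp.IsFppfCover (fun i => (AlgSp.yon S).obj (W i)) (fun i => (AlgSp.yon S).map (c i)) :=
    ⟨fun i => ⟨locP_yon_of_left EtLocal.flat (h1 i), locP_yon_of_left EtLocal.lfp (h2 i)⟩, fun q => by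
      obtain ⟨q, rfl⟩ := (AlgSp.Points.schemeHomeo V).surjective q
      obtain ⟨v, hv⟩ := h3 q
      exact ⟨q, AlgSp.Points.schemeHomeo (W q) v, (AlgSp.Points.map_yon_map_apply (c q) v).trans (congrArg _ hv)⟩⟩
  have hd : ∀ {P : MorphismProperty (AlgSp.Sp S)}, AlgSp.IsSmoothLocalST P →
      AlgSp.IsLocalOnBase AlgSp.IsFppfCover P →
      (∀ i, LocQ P (_root_.FibCat.fpFst (BasedFunctor.comp (_root_.AlgSt.overMap (c i)) y) f)) → LocQ P f :=
    fun {P} hP hP₂ hk => locQ_of_atlas_square hy β (hx hy) (hxs hys)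
      ((hP₂ _ _ (AlgSp.IsAlgSpace.yon_obj V) (fun i => AlgSp.IsAlgSpace.yon_obj (W i)) hcov
        ((AlgSp.yon S).map h) (AlgSp.IsAlgSpace.yon_obj U) (fun i => (AlgSp.yon S).obj (pullback (c i) h))
        (fun i => (AlgSp.yon S).map (pullback.fst (c i) h)) (fun i => (AlgSp.yon S).map (pullback.snd (c i) h))
        (fun _ => AlgSp.IsAlgSpace.yon_obj _)
        (fun i => (GrothLib.AlgSp.isPullback_yon (IsPullback.of_hasPullback (c i) h)).flip)).2
          fun i => mem_fst_of_locQ h𝒳 h𝒴 y hl β (c i) hP (hk i))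
  have := GrothLib.AlgSp.descendsAlong_flat_fpqc.{u}
  exact ⟨hd isSmoothLocalST_flat (GrothLib.SpQuot.isLocalOnBase_fppf_locP EtLocal.flat) fun i => (key i).1,
    hd isSmoothLocalST_lfp isLocalOnBase_fppf_locP_lfp fun i => (key i).2.1,
    hd isSmoothLocalST_smooth (GrothLib.SpQuot.isLocalOnBase_fppf_locP EtLocal.smooth) fun i => (key i).2.2⟩

/-- A gerbe is surjective. -/
theorem isSurjective_of_gerbe (f : 𝒳 ⥤ᵇ 𝒴)
    (hf : Gerb.LocSurjObj (AlgSp.J S) f) : IsSurjective f := by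
  intro q
  obtain ⟨⟨K, str, o, ho⟩, rfl⟩ := Points.mk_surjective q
  obtain ⟨R, hR, hlift⟩ := GrothLib.Stk.exists_local_lift f hf o ho
  obtain ⟨W, c, hc, -, -, h3⟩ := exists_family_of_mem_J hR
  let t : ↥(Over.mk str : Over S).left := IsLocalRing.closedPoint K
  obtain ⟨w, hw⟩ := h3 t
  let d : Over.mk ((W t).left.fromSpecResidueField w ≫ (W t).hom) ⟶ W t :=
    Over.homMk ((W t).left.fromSpecResidueField w) rfl
  obtain ⟨x, g, hg⟩ := hlift (d ≫ c t) (R.downward_closed (hc t) d)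
  have hx : 𝒳.p.obj x = Over.mk ((W t).left.fromSpecResidueField w ≫ (W t).hom) :=
    (f.w_obj x).symm.trans (IsHomLift.domain_eq 𝒴.p (d ≫ c t) g)
  exact ⟨Points.mk ⟨↥((W t).left.residueField w), _, x, hx⟩,
    Points.sound (rel_of_hom (r := FPt.map f ⟨↥((W t).left.residueField w), _, x, hx⟩) (p := ⟨K, str, o, ho⟩) g)⟩

/-- Surjectivity of the diagonal gives injectivity on points. -/
theorem injective_of_isSurjective_diag (h𝒳 : _root_.FibCat.IsFibGrpd 𝒳.p) (h𝒴 : _root_.FibCat.IsFibGrpd 𝒴.p)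
    (f : 𝒳 ⥤ᵇ 𝒴) (hd : IsSurjective (_root_.FibCat.diag f)) : Function.Injective (Points.map f) := fun p q h => by
  obtain ⟨w, hw₁, hw₂⟩ := exists_points_fp h𝒳 h𝒳 h𝒴 f f p q h
  obtain ⟨r, rfl⟩ := hd w
  rw [← points_map_comp] at hw₁ hw₂
  exact hw₁.symm.trans hw₂

theorem isSurjective_diag (h𝒳 : IsAlgStack Scheme.fppfPrecoverage 𝒳) (h𝒴 : IsAlgStack Scheme.fppfPrecoverage 𝒴)
    (f : 𝒳 ⥤ᵇ 𝒴) (hf : Gerb.IsGerbeOver (AlgSp.J S) f) : IsSurjective (_root_.FibCat.diag f) :=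
  have h := diag_props h𝒳 h𝒴 f hf
  (isSurjective_iff_repByAlgSpWith h𝒳.isStack.1 (Fp.isFibGrpd h𝒳.isStack.1 h𝒳.isStack.1 h𝒴.isStack.1) _
    (repByAlgSp1_of_repByAlgSpWith h.1)).2 h.2.2

/-- A gerbe is a homeomorphism on points. -/
theorem isHomeomorph_points_map (h𝒳 : IsAlgStack Scheme.fppfPrecoverage 𝒳)
    (h𝒴 : IsAlgStack Scheme.fppfPrecoverage 𝒴) (f : 𝒳 ⥤ᵇ 𝒴) (hf : Gerb.IsGerbeOver (AlgSp.J S) f) :
    IsHomeomorph (Points.map f) :=
  ⟨continuous_points_map h𝒳 h𝒴 f,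
    isOpenMor_of_flat_lfp h𝒳 h𝒴 f (locQ_props h𝒳 h𝒴 f hf).1 (locQ_props h𝒳 h𝒴 f hf).2.1,
    injective_of_isSurjective_diag h𝒳.isStack.1 h𝒴.isStack.1 f (isSurjective_diag h𝒳 h𝒴 f hf),
    isSurjective_of_gerbe f hf.1⟩

end GrothLib.AlgSt.Section
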