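import Groth.Agent.Lib.AlgSp.Retract
import Groth.Agent.Lib.AlgSt.DiagSpaces
import Groth.Agent.Lib.AlgSt.DiagLFP
import Groth.Agent.Lib.AlgSt.DiagLFT
import Groth.Agent.Lib.AlgSt.FibreProduct
import Groth.Agent.Lib.AlgSt.LocQRep
import Groth.Agent.Lib.AlgSt.Setoid
import Groth.Agent.Lib.SpQuot.CompareMap
import Groth.Agent.Lib.AlgSp.FpqcProps
import Mathlib.AlgebraicGeometry.PullbackCarrier

/-!
# Morphisms from spaces which are locally surjective on objects, with trivial relative position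

For `x : U ⟶ 𝒳` such that every object is fppf locally a value of `x` and isomorphic values come from
equal points (sections of gerbes over spaces), `x` is flat, locally of finite presentation and surjective.
-/

set_option backward.isDefEq.respectTransparency false
set_option backward.isDefEq.respectTransparency.types false

universe u

open CategoryTheory CategoryTheory.Limits AlgebraicGeometry Opposite

namespace GrothLib.AlgSt.Section

open _root_.AlgSt GrothLib.FibCat GrothLib.AlgSt GrothLib.AlgSp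

variable {S : Scheme.{u}} {𝒳 : _root_.AlgSt.Cat S} {U : AlgSp.Space S}

/-- Functors to a space agreeing on objects are isomorphic. -/
theorem iso_of_obj_eq {𝒜 : _root_.AlgSt.Cat S} {F : AlgSp.Sp S} (Φ Ψ : 𝒜 ⥤ᵇ ofSp F)
    (h : ∀ a, Φ.obj a = Ψ.obj a) : Nonempty (Φ ≅ Ψ) :=
  ⟨natIsoOfComponents (fun a => eqToIso (h a))
    (fun a => by
      have e : (ofSp F).p.obj (Φ.obj a) = 𝒜.p.obj a := Φ.w_obj a
      have e' : (ofSp F).p.obj (Ψ.obj a) = 𝒜.p.obj a := Ψ.w_obj a
      refine IsHomLift.of_fac' _ _ _ e e' ?_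
      rw [eqToIso.hom, eqToHom_map]
      simp)
    (fun {a b} f => by
      have := IsHomLift.map 𝒜.p f
      have : (ofSp F).p.IsHomLift (𝒜.p.map f) (Φ.map f) := BasedFunctor.preserves_isHomLift Φ _ _
      have : (ofSp F).p.IsHomLift (𝒜.p.map f) (Ψ.map f) := BasedFunctor.preserves_isHomLift Ψ _ _
      have hΦ := IsHomLift.fac' (ofSp F).p (𝒜.p.map f) (Φ.map f)
      have hΨ := IsHomLift.fac' (ofSp F).p (𝒜.p.map f) (Ψ.map f)
      refine Stk.EltObj.hom_ext ?_
      change (Φ.map f).hom ≫ (eqToHom (h b)).hom = (eqToHom (h a)).hom ≫ (Ψ.map f).hom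
      rw [eltObj_eqToHom_hom, eltObj_eqToHom_hom]
      change (ofSp F).p.map (Φ.map f) ≫ _ = _ ≫ (ofSp F).p.map (Ψ.map f)
      rw [hΦ, hΨ]
      simp)⟩

/-- A morphism from a space through which every object factors fppf locally, unambiguously. -/
structure LocSec (x : ofSp U.obj ⥤ᵇ 𝒳) : Prop where
  loc : ∀ (a : 𝒳.obj), ∃ R ∈ AlgSp.J S (𝒳.p.obj a), ∀ ⦃V : Over S⦄ (f : V ⟶ 𝒳.p.obj a), R f →
    ∃ (o : (ofSp U.obj).obj) (m : x.obj o ⟶ a), 𝒳.p.IsHomLift f m
  sep : ∀ (o o' : (ofSp U.obj).obj) (m : x.obj o ⟶ x.obj o'),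
    𝒳.p.IsHomLift (𝟙 ((ofSp U.obj).p.obj o)) m → o = o'

variable {x : ofSp U.obj ⥤ᵇ 𝒳}

/-- A covering family on which a functor from a scheme factors through `x`. -/
theorem LocSec.exists_cover (h : LocSec x) (hG : _root_.FibCat.IsFibGrpd 𝒳.p) {T : Over S}
    (a : _root_.FibCat.overCat T ⥤ᵇ 𝒳) :
    ∃ (V : ↥T.left → Over S) (f : ∀ i, V i ⟶ T) (v : ∀ i, _root_.FibCat.overCat (V i) ⥤ᵇ ofSp U.obj),
      (∀ i, Flat (f i).left ∧ LocallyOfFinitePresentation (f i).left) ∧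
      (∀ t : ↥T.left, t ∈ Set.range (f t).left) ∧
      ∀ i, Nonempty (BasedFunctor.comp (GrothLib.FibCat.overMap (f i)) a ≅ BasedFunctor.comp (v i) x) := by
  have ha : 𝒳.p.obj (a.obj (Yon.idObj T)) = T := a.w_obj (Yon.idObj T)
  obtain ⟨R₀, hR₀, hl⟩ := h.loc (a.obj (Yon.idObj T))
  let R' : Sieve T := R₀.pullback (eqToHom ha.symm)
  have hR' : R' ∈ AlgSp.J S T := (AlgSp.J S).pullback_stable _ hR₀
  obtain ⟨R, hR, hle⟩ := Precoverage.mem_toGrothendieck_iff_of_isStableUnderComposition.1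
    (show Sieve.overEquiv T R' ∈ Scheme.fppfTopology T.left from hR')
  have hcov : ∀ t : ↥T.left, ∃ (Y : Scheme.{u}) (f : Y ⟶ T.left), R f ∧ t ∈ Set.range f := fun t => by
    obtain ⟨Y, f, hf, y, hy⟩ := Scheme.JointlySurjective.exists_eq
      (K := Scheme.precoverage (@Flat ⊓ @LocallyOfFinitePresentation)) R hR t
    exact ⟨Y, f, hf, y, hy⟩
  choose Y f hf hy using hcov
  let V : ↥T.left → Over S := fun t => Over.mk (f t ≫ T.hom)
  let g : ∀ t, V t ⟶ T := fun t => Over.homMk (f t) rfl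
  have key : ∀ t, ∃ v : _root_.FibCat.overCat (V t) ⥤ᵇ ofSp U.obj,
      Nonempty (BasedFunctor.comp (GrothLib.FibCat.overMap (g t)) a ≅ BasedFunctor.comp v x) := fun t => by
    have hg : R' (g t) := (Sieve.overEquiv_iff _ (f t)).1 (hle _ _ (hf t))
    obtain ⟨o, m, hm⟩ := hl (g t ≫ eqToHom ha.symm) hg
    have hm' : 𝒳.p.IsHomLift (g t) m :=
      IsHomLift.of_fac' 𝒳.p _ _ (IsHomLift.domain_eq 𝒳.p (g t ≫ eqToHom ha.symm) m) ha (by
        rw [IsHomLift.fac' 𝒳.p (g t ≫ eqToHom ha.symm) m]; simp)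
    have ho : (ofSp U.obj).p.obj o = V t :=
      (x.w_obj o).symm.trans (IsHomLift.domain_eq 𝒳.p (g t) m)
    obtain ⟨v, e, he⟩ := Yon.exists_functor (isFibGrpd_ofSp U.obj) o ho
    let μ : (GrothLib.FibCat.overMap (g t)).obj (Yon.idObj (V t)) ⟶ Yon.idObj T :=
      Yon.toId ((GrothLib.FibCat.overMap (g t)).obj (Yon.idObj (V t)))
    have hμ : (_root_.FibCat.overCat T).p.IsHomLift (g t) μ :=
      IsHomLift.of_fac' (_root_.FibCat.overCat T).p _ _ rfl rfl (by simp [μ, Yon.toId, Yon.idObj]; rfl)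
    have := hμ
    have : 𝒳.p.IsHomLift (g t) (a.map μ) := BasedFunctor.preserves_isHomLift a _ _
    have := he
    have : 𝒳.p.IsHomLift (𝟙 (V t)) (x.map e.hom) := BasedFunctor.preserves_isHomLift x _ _
    have : 𝒳.p.IsHomLift (g t) (x.map e.hom ≫ m) := IsHomLift.comp_lift_id_left' 𝒳.p (V t) (x.map e.hom) (g t) m
    obtain ⟨θ, hθ, -⟩ := IsFibGrpd.exists_iso_of_lifts hG (g t) (x.map e.hom ≫ m) (a.map μ)
    exact ⟨v, ⟨Yon.isoOfIdObj hG (G := BasedFunctor.comp (GrothLib.FibCat.overMap (g t)) a)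
      (H := BasedFunctor.comp v x) θ hθ⟩⟩
  choose v hv using key
  exact ⟨V, g, v, fun t => hR.2 (hf t), hy, hv⟩

/-- Morphisms of schemes with a property local in the etale topology give it to functors between slices. -/
theorem repByAlgSpWith_overMap_locP {Q : MorphismProperty Scheme.{u}} (hQ : EtLocal Q) {T T' : Over S} (c : T' ⟶ T)
    (hc : Q c.left) : RepByAlgSpWith (AlgSp.LocP Q) (GrothLib.FibCat.overMap c) := by
  have := hQ.baseChange
  have h : RepByAlgSpWith (AlgSp.LocP Q) (ofSpMap ((AlgSp.yon S).map c)) :=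
    repByAlgSpWith_ofSpMap (AlgSp.IsAlgSpace.yon_obj T') (AlgSp.IsAlgSpace.yon_obj T) _ fun V g =>
      hQ.locP_of_repWith (AlgSp.IsAlgSpace.yon_obj V)
        (GrothLib.AlgSp.repWith_of_isPullback (IsPullback.of_hasPullback g ((AlgSp.yon S).map c)).flip
          ((AlgSp.repWith_yon_map_iff _ _).2 hc))
  obtain ⟨ic⟩ := iso_toOverCat_overMap c
  exact (repByAlgSpWith_iff_of_square (toOverCat T') (toOverCat T) (isEquivOver_toOverCat T')
    (isEquivOver_toOverCat T) ic.symm).2 h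

theorem LocSec.fpFst_iso_fpSnd (h : LocSec x) :
    Nonempty (_root_.FibCat.fpFst x x ≅ _root_.FibCat.fpSnd x x) :=
  iso_of_obj_eq _ _ fun o => h.sep o.obj.fst o.obj.snd o.obj.iso.hom o.property

variable {Q : MorphismProperty Scheme.{u}}

/-- The property read on the relative position of `x` with itself gives it for all base changes. -/
theorem LocSec.repByAlgSpWith_of_self (h : LocSec x) (hG : _root_.FibCat.IsFibGrpd 𝒳.p) (hQ : EtLocal Q)
    (hQb : AlgSp.IsLocalOnBase AlgSp.IsFppfCover (AlgSp.LocP (S := S) Q)) (h1 : RepByAlgSp1 x)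
    (hs : RepByAlgSpWith (AlgSp.LocP Q) (_root_.FibCat.fpFst x x)) : RepByAlgSpWith (AlgSp.LocP Q) x := by
  intro T a
  obtain ⟨F, e, he⟩ := h1 T a
  refine ⟨F, e, he, ?_⟩
  obtain ⟨V, f, v, hf, hcov, hv⟩ := h.exists_cover hG a
  let φ := spMapOfOver (BasedFunctor.comp e (_root_.FibCat.fpFst a x))
  have hi : ∀ i, AlgSp.LocP Q (pullback.fst ((AlgSp.yon S).map (f i)) φ) := fun i => by
    obtain ⟨α⟩ := hv i
    have hR : HasRep (AlgSp.LocP Q) (_root_.FibCat.fpFst (BasedFunctor.comp (GrothLib.FibCat.overMap (f i)) a) x) :=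
      HasRep.of_equiv (BasedFunctor.comp (Fp.paste x x (v i)) (Fp.congr α.symm (Iso.refl x)))
        (IsEquivOver.comp (Fp.isEquivOver_paste x x (v i)) (Fp.isEquivOver_congr _ _)) (Iso.refl _)
        (hs (V i) (v i))
    obtain ⟨ic⟩ := iso_toOverCat_overMap (f i)
    have := IsEquivOver.full (isEquivOver_toOverCat T)
    have := IsEquivOver.faithful (isEquivOver_toOverCat T)
    let sq := IsPullback.of_hasPullback ((AlgSp.yon S).map (f i)) φ
    let M := Fp.map (F := ofSpMap ((AlgSp.yon S).map (f i))) (G := ofSpMap φ) (toOverCat (V i)) e (toOverCat T) ic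
      (isoOfSpMapOfOver (BasedFunctor.comp e (_root_.FibCat.fpFst a x)))
    let E := BasedFunctor.comp (spToFp sq.w) (BasedFunctor.comp M (Fp.paste x a (GrothLib.FibCat.overMap (f i))))
    have hE : _root_.FibCat.IsEquivOver E := IsEquivOver.comp (isEquivOver_spToFp sq) (IsEquivOver.comp
      (Fp.isEquivOver_map _ _ _ _ _ (isEquivOver_toOverCat (V i)) he)
      (Fp.isEquivOver_paste x a (GrothLib.FibCat.overMap (f i))))
    have hA := GrothLib.AlgSp.isAlgSpace_pullback' (AlgSp.IsAlgSpace.yon_obj T) (AlgSp.IsAlgSpace.yon_obj (V i))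
      F.property ((AlgSp.yon S).map (f i)) φ
    exact spMapOfOver_toOverCat (pullback.fst ((AlgSp.yon S).map (f i)) φ) ▸ hR.mem isoInvariant_locP ⟨_, hA⟩ E hE
  have hc : AlgSp.IsFppfCover (fun i => (AlgSp.yon S).obj (V i)) (fun i => (AlgSp.yon S).map (f i)) := by
    refine ⟨fun i => ⟨?_, ?_⟩, fun p => ?_⟩
    · exact EtLocal.locP_of_repWith EtLocal.flat (AlgSp.IsAlgSpace.yon_obj T) ((AlgSp.repWith_yon_map_iff _ _).2 (hf i).1)
    · exact EtLocal.locP_of_repWith EtLocal.lfp (AlgSp.IsAlgSpace.yon_obj T) ((AlgSp.repWith_yon_map_iff _ _).2 (hf i).2)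
    · obtain ⟨t, rfl⟩ := (AlgSp.Points.schemeHomeo T).surjective p
      obtain ⟨w, hw⟩ := hcov t
      exact ⟨t, AlgSp.Points.schemeHomeo (V t) w, by rw [AlgSp.Points.map_yon_map_apply, hw]⟩
  exact (hQb _ _ (AlgSp.IsAlgSpace.yon_obj T) (fun i => AlgSp.IsAlgSpace.yon_obj (V i)) hc φ F.property
    (fun i => pullback ((AlgSp.yon S).map (f i)) φ) (fun i => pullback.fst _ _) (fun i => pullback.snd _ _)
    (fun i => GrothLib.AlgSp.isAlgSpace_pullback' (AlgSp.IsAlgSpace.yon_obj T) (AlgSp.IsAlgSpace.yon_obj (V i))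
      F.property ((AlgSp.yon S).map (f i)) φ)
    (fun i => (IsPullback.of_hasPullback _ _).flip)).2 hi

theorem LocSec.isSurjective (h : LocSec x) (h𝒳 : IsAlgStack Scheme.fppfPrecoverage 𝒳) : IsSurjective x := by
  intro p
  obtain ⟨W, w, hw, hws⟩ := h𝒳.atlas
  obtain ⟨t, rfl⟩ := surjective_ofChart h𝒳.isStack.1 hws p
  obtain ⟨V, f, v, -, hcov, hv⟩ := h.exists_cover h𝒳.isStack.1 w
  obtain ⟨α⟩ := hv t
  obtain ⟨s, hs⟩ := hcov t
  refine ⟨Points.ofChart (v t) s, ?_⟩
  rw [← ofChart_comp, ← ofChart_congr α s]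
  exact (ofChart_overMap (f t) w s).trans (congrArg _ hs)

theorem isLocalOnBase_locP_inf {τ : AlgSp.CovNotion S} {P P' : MorphismProperty Scheme.{u}}
    (h : AlgSp.IsLocalOnBase τ (AlgSp.LocP (S := S) P)) (h' : AlgSp.IsLocalOnBase τ (AlgSp.LocP (S := S) P')) :
    AlgSp.IsLocalOnBase τ (AlgSp.LocP (S := S) (P ⊓ P')) := by
  intro ι Y Yi g hY hYi hc X f hX Xi p q hXi sq
  refine ⟨fun hf i U V a b k ha hb e => ⟨?_, ?_⟩, fun H U V a b k ha hb e => ⟨?_, ?_⟩⟩
  · exact ((h Yi g hY hYi hc f hX Xi p q hXi sq).1 (locP_mono (fun _ _ _ h => h.1) hf) i) a b k ha hb e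
  · exact ((h' Yi g hY hYi hc f hX Xi p q hXi sq).1 (locP_mono (fun _ _ _ h => h.2) hf) i) a b k ha hb e
  · exact ((h Yi g hY hYi hc f hX Xi p q hXi sq).2 fun i => locP_mono (fun _ _ _ h => h.1) (H i)) a b k ha hb e
  · exact ((h' Yi g hY hYi hc f hX Xi p q hXi sq).2 fun i => locP_mono (fun _ _ _ h => h.2) (H i)) a b k ha hb e

/-- Flat and locally of finite presentation. -/
abbrev FlatLFP : MorphismProperty Scheme.{u} := @Flat ⊓ @LocallyOfFinitePresentation

theorem isLocalOnBase_flatLFP : AlgSp.IsLocalOnBase (S := S) AlgSp.IsFppfCover (AlgSp.LocP FlatLFP) :=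
  haveI := GrothLib.AlgSp.descendsAlong_flat_fpqc.{u}
  isLocalOnBase_locP_inf (GrothLib.SpQuot.isLocalOnBase_fppf_locP EtLocal.flat) isLocalOnBase_fppf_locP_lfp

theorem srcDescends_flatLFP : SrcDescends.{u} FlatLFP FlatLFP := fun _ _ _ c f hc hs h =>
  ⟨srcDescends_flat c f hc.1 hs h.1,
    srcDescends_fppf GrothLib.FppfSource.fppfSourceDescends_lfp c f hc hs h.2⟩

theorem retracts_flatLFP : Retracts.{u} FlatLFP := fun _ _ _ p σ g e h =>
  ⟨retracts_flat p σ g e h.1, retracts_lfp p σ g e h.2⟩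

/-- A locally surjective, unambiguous morphism from a space is flat and locally of finite presentation. -/
theorem LocSec.repByAlgSpWith (h : LocSec x) (h𝒳 : IsAlgStack Scheme.fppfPrecoverage 𝒳)
    (h1 : RepByAlgSp1 x) : RepByAlgSpWith (AlgSp.LocP FlatLFP) x := by
  have hQ : EtLocal FlatLFP.{u} := EtLocal.flat.inf EtLocal.lfp
  have hQb := isLocalOnBase_flatLFP (S := S)
  have hR := retracts_flatLFP.{u}
  have hD := srcDescends_flatLFP.{u}
  haveI : IsZariskiLocalAtSource FlatLFP.{u} := by infer_instance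
  have hsm : ∀ ⦃A B : Scheme.{u}⦄ (c : A ⟶ B), Smooth c → FlatLFP c := fun _ _ c hc =>
    ⟨inferInstanceAs (Flat c), inferInstanceAs (LocallyOfFinitePresentation c)⟩
  have hG := h𝒳.isStack.1
  have hU := U.property
  obtain ⟨W, w, hw, hws⟩ := h𝒳.atlas
  obtain ⟨V, f, v, hf, hcov, hv⟩ := h.exists_cover hG w
  obtain ⟨ι'⟩ := h.fpFst_iso_fpSnd
  obtain ⟨G, eG, heG⟩ := repByAlgSp_fp_of_repByAlgSp1 (isFibGrpd_ofSp U.obj) hG x x h1 (repByAlgSp_ofSp hU)
  let q₀ : G.obj ⟶ U.obj := spHom (BasedFunctor.comp eG (_root_.FibCat.fpFst x x))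
  suffices hq : AlgSp.LocP FlatLFP q₀ by
    refine h.repByAlgSpWith_of_self hG hQ hQb h1 ?_
    have h2 : RepByAlgSpWith (AlgSp.LocP FlatLFP) (ofSpMap q₀) := repByAlgSpWith_ofSpMap G.property hU q₀ fun T c =>
      hQ.locP_of_isPullback G.property hU (AlgSp.IsAlgSpace.yon_obj T) (IsPullback.of_hasPullback c q₀).flip hq
    obtain ⟨eG', heG', ⟨η⟩, ⟨ε⟩⟩ := IsEquivOver.symm heG
    have := IsEquivOver.full (IsEquivOver.refl (ofSp U.obj))
    have := IsEquivOver.faithful (IsEquivOver.refl (ofSp U.obj))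
    exact repByAlgSpWith_of_square eG' (BasedFunctor.id (ofSp U.obj)) heG'
      ((whiskerRightIso ε (_root_.FibCat.fpFst x x)).symm ≪≫
        whiskerLeftIso eG' (isoOfSpHom (BasedFunctor.comp eG (_root_.FibCat.fpFst x x)))) h2
  have hQi : IsoInvariant (AlgSp.LocP (S := S) FlatLFP) := isoInvariant_locP
  have hh : ∀ i, RepByAlgSpWith (AlgSp.LocP FlatLFP) (BasedFunctor.comp (v i) x) := fun i => by
    obtain ⟨α⟩ := hv i
    refine repByAlgSpWith_of_iso α (repByAlgSpWith_comp (isFibGrpd_overCat (V i)) (isFibGrpd_overCat W) hQi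
      (fun _ _ _ hX hY hZ _ _ ha hb => hQ.locP_comp hX hY hZ ha hb) hQb _ w ?_
      (repByAlgSpWith_mono (fun _ _ a _ _ ha => locP_mono hsm ha) hw))
    exact repByAlgSpWith_overMap_locP hQ (f i) ⟨(hf i).1, (hf i).2⟩
  let g : ∀ i, (AlgSp.yon S).obj (V i) ⟶ U.obj := fun i => spHom (BasedFunctor.comp (toOverCat (V i)) (v i))
  have hP : ∀ i, AlgSp.IsAlgSpace (pullback (g i) q₀) := fun i =>
    GrothLib.AlgSp.isAlgSpace_pullback' hU (AlgSp.IsAlgSpace.yon_obj (V i)) G.property (g i) q₀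
  have hq' : ∀ i, AlgSp.LocP FlatLFP (pullback.fst (g i) q₀ ≫ g i) := fun i => by
    have := IsEquivOver.full (IsEquivOver.refl (ofSp U.obj))
    have := IsEquivOver.faithful (IsEquivOver.refl (ofSp U.obj))
    let sq := IsPullback.of_hasPullback (g i) q₀
    let M := Fp.map (F := ofSpMap (g i)) (G := ofSpMap q₀) (F' := v i) (G' := _root_.FibCat.fpFst x x)
      (toOverCat (V i)) eG (BasedFunctor.id (ofSp U.obj))
      (isoOfSpHom (BasedFunctor.comp (toOverCat (V i)) (v i)))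
      (isoOfSpHom (BasedFunctor.comp eG (_root_.FibCat.fpFst x x)))
    let E := BasedFunctor.comp (BasedFunctor.comp (spToFp sq.w) M)
      (BasedFunctor.comp (Fp.paste x x (v i)) (Fp.symm (BasedFunctor.comp (v i) x) x))
    have hE : _root_.FibCat.IsEquivOver E := IsEquivOver.comp (IsEquivOver.comp (isEquivOver_spToFp sq)
      (Fp.isEquivOver_map _ _ _ _ _ (isEquivOver_toOverCat (V i)) heG))
      (IsEquivOver.comp (Fp.isEquivOver_paste x x (v i)) (Fp.isEquivOver_symm _ _))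
    refine mem_of_repByAlgSpWith (detectedBySchemes_of_isLocalOnBase hQb) hQi (hh i) x U (BasedFunctor.id _)
      (IsEquivOver.refl _) ⟨_, hP i⟩ E hE (pullback.fst (g i) q₀ ≫ g i) ?_
    let a₁ : BasedFunctor.comp E (_root_.FibCat.fpFst x (BasedFunctor.comp (v i) x)) ≅
        BasedFunctor.comp (ofSpMap (pullback.snd (g i) q₀)) (BasedFunctor.comp eG (_root_.FibCat.fpSnd x x)) :=
      Iso.refl _
    let a₂ : BasedFunctor.comp (ofSpMap (pullback.snd (g i) q₀)) (ofSpMap q₀) ≅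
        ofSpMap (pullback.fst (g i) q₀ ≫ g i) :=
      (iso_ofSpMap_comp _ _).some ≪≫ eqToIso (by rw [sq.w])
    exact a₁ ≪≫ whiskerLeftIso (ofSpMap (pullback.snd (g i) q₀)) (whiskerLeftIso eG ι'.symm) ≪≫
      whiskerLeftIso (ofSpMap (pullback.snd (g i) q₀))
        (isoOfSpHom (BasedFunctor.comp eG (_root_.FibCat.fpFst x x))) ≪≫ a₂
  obtain ⟨δ, hδ⟩ : ∃ δ : U.obj ⟶ G.obj, δ ≫ q₀ = 𝟙 _ := by
    obtain ⟨eG', heG', ⟨η⟩, ⟨ε⟩⟩ := IsEquivOver.symm heG
    let D := _root_.FibCat.fpLift (F := x) (G := x) (BasedFunctor.id (ofSp U.obj)) (BasedFunctor.id (ofSp U.obj))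
      (Iso.refl _)
    refine ⟨spHom (BasedFunctor.comp D eG'), ?_⟩
    rw [← spHom_comp]
    refine (spHom_congr (whiskerLeftIso D (whiskerRightIso ε (_root_.FibCat.fpFst x x)))).trans ?_
    exact spHom_id
  have hg : ∀ i, AlgSp.LocP FlatLFP (g i) := fun i =>
    locP_of_retract hQ hR (hP i) hU (pullback.fst (g i) q₀) (pullback.lift (𝟙 _) (g i ≫ δ) (by simp [hδ]))
      (pullback.lift_fst _ _ _) (g i) (hq' i)
  have hvs : ∀ u' : AlgSp.Points U.obj, ∃ i, u' ∈ Set.range (AlgSp.Points.map (g i)) := by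
    intro u'
    obtain ⟨T, b, be, bs⟩ := hU.atlas
    obtain ⟨t, rfl⟩ := GrothLib.AlgSp.surjective_map_of_repWith bs u'
    obtain ⟨t, rfl⟩ := (AlgSp.Points.schemeHomeo T).surjective t
    let β := BasedFunctor.comp (ofOverCat T) (ofSpMap b)
    obtain ⟨T', c, l, -, hcs, ⟨j⟩⟩ := exists_lift_chart (BasedFunctor.comp β x) w hw hws
    obtain ⟨t', rfl⟩ := hcs.surj t
    obtain ⟨r, hr⟩ := hcov (l.left t')
    obtain ⟨α⟩ := hv (l.left t')
    let R := pullback l (f (l.left t'))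
    obtain ⟨z, hz₁, hz₂⟩ := Scheme.exists_preimage_of_isPullback
      (GrothLib.AlgSp.isPullback_left (IsPullback.of_hasPullback l (f (l.left t')))) t' r hr.symm
    let c₁ : R ⟶ T := pullback.fst l (f (l.left t')) ≫ c
    let c₂ : R ⟶ V (l.left t') := pullback.snd l (f (l.left t'))
    have i₁ : BasedFunctor.comp (BasedFunctor.comp (GrothLib.FibCat.overMap c₁) β) x ≅
        BasedFunctor.comp (BasedFunctor.comp (GrothLib.FibCat.overMap c₂) (v (l.left t'))) x :=
      whiskerRightIso (overMapCompIso (pullback.fst l (f (l.left t'))) c).symm (BasedFunctor.comp β x) ≪≫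
        whiskerLeftIso (GrothLib.FibCat.overMap (pullback.fst l (f (l.left t')))) j ≪≫
        whiskerRightIso (overMapCompIso (pullback.fst l (f (l.left t'))) l ≪≫
          eqToIso (by rw [pullback.condition]) ≪≫ (overMapCompIso c₂ (f (l.left t'))).symm) w ≪≫
        whiskerLeftIso (GrothLib.FibCat.overMap c₂) α
    obtain ⟨k⟩ := iso_of_obj_eq (BasedFunctor.comp (GrothLib.FibCat.overMap c₁) β)
      (BasedFunctor.comp (GrothLib.FibCat.overMap c₂) (v (l.left t'))) fun a => by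
        refine h.sep _ _ (GrothLib.FibCat.isoApp i₁ a).hom ?_
        exact isHomLift_isoApp i₁ ((BasedFunctor.comp (GrothLib.FibCat.overMap c₁) β).w_obj a).symm
    have e : (AlgSp.yon S).map c₁ ≫ b = (AlgSp.yon S).map c₂ ≫ g (l.left t') := by
      have := spHom_congr (whiskerLeftIso (toOverCat R) k)
      obtain ⟨i₃⟩ := iso_toOverCat_overMap c₁
      obtain ⟨i₄⟩ := iso_toOverCat_overMap c₂
      have key : ∀ {T₁ : Over S} (d : R ⟶ T₁) (Φ : ofSch T₁ ⥤ᵇ ofSp U.obj),
          spHom (BasedFunctor.comp (ofSpMap ((AlgSp.yon S).map d)) Φ) = (AlgSp.yon S).map d ≫ spHom Φ := fun d Φ => by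
        rw [spHom_comp, spHom_ofSpMap]
      have h₁ := (spHom_congr (whiskerRightIso i₃ β)).trans (key c₁ (BasedFunctor.comp (toOverCat T) β))
      have h₂ := (spHom_congr (whiskerRightIso i₄ (v (l.left t')))).trans
        (key c₂ (BasedFunctor.comp (toOverCat (V (l.left t'))) (v (l.left t'))))
      have h₀ : spHom (BasedFunctor.comp (toOverCat T) β) = b :=
        (spHom_congr (whiskerRightIso (toOverCatCompIso T) (ofSpMap b))).trans (spHom_ofSpMap b)
      rw [← h₀]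
      exact h₁.symm.trans (this.trans h₂)
    refine ⟨l.left t', AlgSp.Points.schemeHomeo (V (l.left t')) r, ?_⟩
    rw [← hz₂, ← AlgSp.Points.map_yon_map_apply, ← AlgSp.Points.map_comp, ← e, AlgSp.Points.map_comp,
      AlgSp.Points.map_yon_map_apply]
    congr 1
    congr 1
    exact (congrArg c.left hz₁ : _)
  refine locP_of_cover_source (C := FlatLFP) hQ (fun _ _ c (hc : Etale c) => hsm c inferInstance) hQ hD G.property hU hP
    (g := fun i => pullback.snd (g i) q₀)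
    (fun i => hQ.locP_of_isPullback (AlgSp.IsAlgSpace.yon_obj (V i)) hU G.property
      (IsPullback.of_hasPullback (g i) q₀) (hg i))
    (fun z => ?_) fun i => by rw [← pullback.condition]; exact hq' i
  obtain ⟨i, p, hp⟩ := hvs (AlgSp.Points.map q₀ z)
  obtain ⟨y, -, hy⟩ := GrothLib.AlgSp.exists_of_isPullback (IsPullback.of_hasPullback (g i) q₀) hp
  exact ⟨i, y, hy⟩

end GrothLib.AlgSt.Section
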