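import Groth.Agent.Lib.AlgSt.Gerbe.OfStackSection
import Groth.Prelude.Def_StGerb2

/-!
# The automorphism group scheme of a section of a gerbe over a scheme is flat and locally finitely presented
-/

set_option backward.isDefEq.respectTransparency false
set_option backward.isDefEq.respectTransparency.types false

universe u

open CategoryTheory CategoryTheory.Limits AlgebraicGeometry Opposite

namespace GrothLib.AlgSt.Section

open _root_.AlgSt GrothLib.FibCat GrothLib.AlgSt GrothLib.AlgSp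

variable {S : Scheme.{u}}

/-- A representable property of the map of slices is one of the map of schemes. -/
theorem left_of_repByAlgSpWith_overMap {Q : MorphismProperty Scheme.{u}} {T T' : Over S} (g : T' ⟶ T)
    (h : RepByAlgSpWith (AlgSp.LocP Q) (_root_.AlgSt.overMap g)) : Q g.left := by
  let U : AlgSp.Space S := ⟨(AlgSp.yon S).obj T', AlgSp.IsAlgSpace.yon_obj T'⟩
  let k := toOverCat T'
  let E : ofSp U.obj ⥤ᵇ _root_.FibCat.fp (BasedFunctor.id (_root_.FibCat.overCat T)) (_root_.AlgSt.overMap g) :=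
    _root_.FibCat.fpLift (BasedFunctor.comp k (_root_.AlgSt.overMap g)) k (Iso.refl _)
  have hE : _root_.FibCat.IsEquivOver E :=
    IsEquivOver.of_comp_right (show _root_.FibCat.IsEquivOver (BasedFunctor.comp E (_root_.FibCat.fpSnd _ _)) from
      isEquivOver_toOverCat T') (Fp.isEquivOver_fpSnd_of_isEquivOver _ (IsEquivOver.refl _))
  have hm := HasRep.mem (h T (BasedFunctor.id _)) isoInvariant_locP U E hE
  have e : spMapOfOver (BasedFunctor.comp E (_root_.FibCat.fpFst _ _)) = (AlgSp.yon S).map g := spMapOfOver_overMap g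
  rw [e] at hm
  exact left_of_locP_yon hm

variable {U : Over S} {𝒳 : _root_.AlgSt.Cat S} (x : _root_.FibCat.overCat U ⥤ᵇ 𝒳)
  (G : Over U.left) [GrpObj G] (r : Gerb.AutRep x (Gerb.ptsGrp U G))

/-- The total space of `G` over the base. -/
abbrev tot : Over S := Over.mk (G.hom ≫ U.hom)

/-- The projection. -/
abbrev proj : tot G ⟶ U := Over.homMk G.hom rfl

/-- The point of `G` of an object over its total space. -/
def pnt (d : (_root_.FibCat.overCat (tot G)).obj) :
    (Gerb.ptsGrp U G).obj (op ((_root_.AlgSt.overMap (proj G)).obj d)) :=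
  (Over.homMk d.hom.left rfl : (Over.iteratedSliceForward U).obj ((_root_.AlgSt.overMap (proj G)).obj d) ⟶ G)

theorem pnt_map {d d' : (_root_.FibCat.overCat (tot G)).obj} (φ : d ⟶ d') :
    (Gerb.ptsGrp U G).map ((_root_.AlgSt.overMap (proj G)).map φ).op (pnt G d') = pnt G d :=
  Over.OverMorphism.ext (show φ.left.left ≫ d'.hom.left = d.hom.left by rw [← Over.w φ]; rfl)

/-- The automorphism attached to a point, as an isomorphism of `𝒳`. -/
def autIso {T : (_root_.FibCat.overCat U).obj} (α : Gerb.AutO (x.obj T)) : x.obj T ≅ x.obj T :=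
  (Functor.Fiber.fiberInclusion).mapIso α

/-- The tautological automorphism over the total space. -/
noncomputable def taut : BasedFunctor.comp (_root_.AlgSt.overMap (proj G)) x ≅
    BasedFunctor.comp (_root_.AlgSt.overMap (proj G)) x :=
  natIsoOfComponents (fun d => autIso x (r.iso _ (pnt G d)))
    (fun d => by
      have h : 𝒳.p.IsHomLift (𝟙 (𝒳.p.obj (x.obj ((_root_.AlgSt.overMap (proj G)).obj d))))
          (autIso x (r.iso _ (pnt G d))).hom := (r.iso _ (pnt G d)).hom.2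
      exact isHomLift_id_of_eq 𝒳.p (R := 𝒳.p.obj (x.obj ((_root_.AlgSt.overMap (proj G)).obj d))) _
        (Or.inl ((BasedFunctor.comp (_root_.AlgSt.overMap (proj G)) x).w_obj d)) (h := h))
    (fun {d d'} φ => by
      have h := r.natural ((_root_.AlgSt.overMap (proj G)).map φ) (pnt G d')
      rw [pnt_map G φ] at h
      exact h.symm)

/-- The map to the fibre product of `x` with itself. -/
noncomputable def totFp : _root_.FibCat.overCat (tot G) ⥤ᵇ _root_.FibCat.fp x x :=
  _root_.FibCat.fpLift (_root_.AlgSt.overMap (proj G)) (_root_.AlgSt.overMap (proj G)) (taut x G r)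

theorem isEquivOver_totFp (h𝒳 : _root_.FibCat.IsFibGrpd 𝒳.p) (π : 𝒳 ⥤ᵇ _root_.FibCat.overCat U)
    (e : BasedFunctor.comp x π ≅ BasedFunctor.id (_root_.FibCat.overCat U)) :
    _root_.FibCat.IsEquivOver (totFp x G r) := by
  have hleft : ∀ {T₁ T₁' T₂ T₂' : (_root_.FibCat.overCat U).obj} (φ₁ : T₁ ⟶ T₂) (φ₂ : T₁ ⟶ T₂)
      (a : x.obj T₁ ⟶ x.obj T₁) (b : x.obj T₂ ⟶ x.obj T₂), 𝒳.p.IsHomLift (𝟙 T₁.left) a →
      𝒳.p.IsHomLift (𝟙 T₂.left) b → x.map φ₁ ≫ b = a ≫ x.map φ₂ → φ₁ = φ₂ := by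
    intro T₁ _ T₂ _ φ₁ φ₂ a b ha hb hw
    have h1 : (_root_.FibCat.overCat U).p.IsHomLift φ₁.left φ₁ := IsHomLift.map (_root_.FibCat.overCat U).p φ₁
    have h2 : (_root_.FibCat.overCat U).p.IsHomLift φ₂.left φ₂ := IsHomLift.map (_root_.FibCat.overCat U).p φ₂
    have h1' : 𝒳.p.IsHomLift φ₁.left (x.map φ₁) := BasedFunctor.preserves_isHomLift x _ _
    have h2' : 𝒳.p.IsHomLift φ₂.left (x.map φ₂) := BasedFunctor.preserves_isHomLift x _ _
    have := ha
    have := hb
    have l1 : 𝒳.p.IsHomLift φ₁.left (x.map φ₁ ≫ b) := IsHomLift.comp_lift_id_right' 𝒳.p φ₁.left _ T₂.left _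
    have l2 : 𝒳.p.IsHomLift φ₂.left (a ≫ x.map φ₂) := IsHomLift.comp_lift_id_left' 𝒳.p T₁.left a φ₂.left _
    rw [hw] at l1
    exact Over.OverMorphism.ext ((IsHomLift.fac 𝒳.p φ₁.left (a ≫ x.map φ₂)).trans
      (IsHomLift.fac 𝒳.p φ₂.left (a ≫ x.map φ₂)).symm)
  have hlift : ∀ {T : (_root_.FibCat.overCat U).obj} (α : Gerb.AutO (x.obj T)),
      𝒳.p.IsHomLift (𝟙 T.left) (autIso x α).hom := fun {T} α => by
    have h : 𝒳.p.IsHomLift (𝟙 (𝒳.p.obj (x.obj T))) (autIso x α).hom := α.hom.2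
    exact isHomLift_id_of_eq 𝒳.p (R := 𝒳.p.obj (x.obj T)) _ (Or.inl (x.w_obj T)) (h := h)
  refine FFEssSurjOver.isEquivOver ⟨⟨fun {d d'} ψ => ?_⟩, ⟨fun {d d' φ φ'} h => ?_⟩, fun η => ?_⟩
  · let T := (_root_.AlgSt.overMap (proj G)).obj d
    let T' := (_root_.AlgSt.overMap (proj G)).obj d'
    let φ : T ⟶ T' := ψ.hom.fst
    let φ₂ : T ⟶ T' := ψ.hom.snd
    have hw : x.map φ ≫ (autIso x (r.iso T' (pnt G d'))).hom = (autIso x (r.iso T (pnt G d))).hom ≫ x.map φ₂ :=
      Fp.w ψ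
    have hφ : φ = φ₂ := hleft (T₁' := T) (T₂' := T') φ φ₂ _ _ (hlift _) (hlift _) hw
    rw [← hφ] at hw
    have hn : (autIso x (r.iso T ((Gerb.ptsGrp U G).map φ.op (pnt G d')))).hom ≫ x.map φ =
        x.map φ ≫ (autIso x (r.iso T' (pnt G d'))).hom := r.natural φ (pnt G d')
    have h1 : (_root_.FibCat.overCat U).p.IsHomLift φ.left φ := IsHomLift.map (_root_.FibCat.overCat U).p φ
    have h1' : 𝒳.p.IsHomLift φ.left (x.map φ) := BasedFunctor.preserves_isHomLift x _ _
    have ha := hlift (r.iso T ((Gerb.ptsGrp U G).map φ.op (pnt G d')))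
    have hb := hlift (r.iso T (pnt G d))
    have he : (autIso x (r.iso T ((Gerb.ptsGrp U G).map φ.op (pnt G d')))).hom =
        (autIso x (r.iso T (pnt G d))).hom :=
      IsFibGrpd.hom_ext h𝒳 (𝟙 T.left) φ.left (x.map φ) (hn.trans hw)
    have hp : (Gerb.ptsGrp U G).map φ.op (pnt G d') = pnt G d :=
      (r.iso T).injective (Aut.ext (Functor.Fiber.hom_ext he))
    have hc : φ.left ≫ d'.hom = d.hom := Over.OverMorphism.ext (congrArg CommaMorphism.left hp :)
    exact ⟨Over.homMk φ.left hc, Fp.hom_ext (Over.OverMorphism.ext rfl)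
      ((Over.OverMorphism.ext rfl : _ = φ).trans hφ)⟩
  · exact Over.OverMorphism.ext (congrArg (fun t => CommaMorphism.left t.hom.fst) h)
  · let T := η.obj.fst
    let T₂ := η.obj.snd
    let β : x.obj T ≅ x.obj T₂ := η.obj.iso
    have hβ : 𝒳.p.IsHomLift (𝟙 T.left) β.hom := Fp.iso_lift η
    let k : T ≅ T₂ := (GrothLib.FibCat.isoApp e T).symm ≪≫ π.toFunctor.mapIso β ≪≫ GrothLib.FibCat.isoApp e T₂
    have hT₂ : (_root_.FibCat.overCat U).p.obj T₂ = T.left := Fp.snd_proj η
    have hk : (_root_.FibCat.overCat U).p.IsHomLift (𝟙 T.left) k.hom := by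
      have a1 : (_root_.FibCat.overCat U).p.IsHomLift (𝟙 T.left) (GrothLib.FibCat.isoApp e T).hom :=
        isHomLift_isoApp e rfl
      have a1' := isHomLift_id_inv (_root_.FibCat.overCat U).p (R := T.left) (GrothLib.FibCat.isoApp e T)
      have a2 : (_root_.FibCat.overCat U).p.IsHomLift (𝟙 T.left) (π.map β.hom) :=
        BasedFunctor.preserves_isHomLift π _ _
      have a3 : (_root_.FibCat.overCat U).p.IsHomLift (𝟙 T.left) (GrothLib.FibCat.isoApp e T₂).hom :=
        isHomLift_isoApp e hT₂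
      change (_root_.FibCat.overCat U).p.IsHomLift (𝟙 T.left)
        ((GrothLib.FibCat.isoApp e T).inv ≫ π.map β.hom ≫ (GrothLib.FibCat.isoApp e T₂).hom)
      infer_instance
    have hk' := isHomLift_id_inv (_root_.FibCat.overCat U).p (R := T.left) k
    have hxk : 𝒳.p.IsHomLift (𝟙 T.left) (x.map k.inv) := BasedFunctor.preserves_isHomLift x _ _
    let a : x.obj T ≅ x.obj T := β ≪≫ (x.toFunctor.mapIso k).symm
    have hxk' : 𝒳.p.IsHomLift (𝟙 T.left) (x.toFunctor.mapIso k).symm.hom := hxk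
    have ha : 𝒳.p.IsHomLift (𝟙 T.left) a.hom := IsHomLift.comp_lift_id_left' 𝒳.p T.left β.hom (𝟙 _) _
    have ha' : 𝒳.p.IsHomLift (𝟙 (𝒳.p.obj (x.obj T))) a.hom :=
      isHomLift_id_of_eq 𝒳.p (R := T.left) a.hom (Or.inl rfl)
    have ha'' := isHomLift_id_inv 𝒳.p (R := 𝒳.p.obj (x.obj T)) a
    let α : Gerb.AutO (x.obj T) := ⟨⟨a.hom, ha'⟩, ⟨a.inv, ha''⟩, Functor.Fiber.hom_ext a.hom_inv_id,
      Functor.Fiber.hom_ext a.inv_hom_id⟩
    let p : (Over.iteratedSliceForward U).obj T ⟶ G := (r.iso T).symm α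
    let d : (_root_.FibCat.overCat (tot G)).obj := Over.mk (Over.homMk p.left (by
      change p.left ≫ G.hom ≫ U.hom = T.left.hom
      rw [← Category.assoc, Over.w p]
      exact Over.w T.hom) : T.left ⟶ tot G)
    let o := (totFp x G r).obj d
    let i₁ : (_root_.AlgSt.overMap (proj G)).obj d ≅ T :=
      Over.isoMk (Iso.refl T.left) ((Category.id_comp _).trans
        (show T.hom = d.hom ≫ proj G from Over.OverMorphism.ext (Over.w p).symm))
    have hpnt : (Gerb.ptsGrp U G).map i₁.hom.op p = pnt G d :=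
      Over.OverMorphism.ext (Category.id_comp p.left)
    have hn := r.natural i₁.hom p
    rw [hpnt, show r.iso T p = α from (r.iso T).apply_symm_apply α] at hn
    refine ⟨d, Fp.isoMk (a := o) (b := η) i₁ (i₁ ≪≫ k) ?_, (Fp.isHomLift_iff _ _).2 ?_⟩
    · change x.map i₁.hom ≫ β.hom =
        (r.iso ((_root_.AlgSt.overMap (proj G)).obj d) (pnt G d)).hom.1 ≫ x.map (i₁.hom ≫ k.hom)
      refine Eq.symm ?_
      rw [x.map_comp]
      refine ((Category.assoc _ _ _).symm.trans ((congrArg (· ≫ x.map k.hom) hn).trans (Category.assoc _ _ _))).trans ?_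
      refine congrArg (x.map i₁.hom ≫ ·) ?_
      change (β.hom ≫ x.map k.inv) ≫ x.map k.hom = β.hom
      rw [Category.assoc, ← x.map_comp, Iso.inv_hom_id, x.map_id, Category.comp_id]
    · exact IsHomLift.of_fac' _ _ _ rfl rfl (by simp [i₁]; rfl)

/-- The automorphism group of a section of a gerbe is flat and locally of finite presentation. -/
theorem autScheme_props (h𝒳 : IsAlgStack Scheme.fppfPrecoverage 𝒳) (π : 𝒳 ⥤ᵇ _root_.FibCat.overCat U)
    (hπ : Gerb.IsGerbeOver (AlgSp.J S) π) (e : BasedFunctor.comp x π ≅ BasedFunctor.id (_root_.FibCat.overCat U))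
    (r : Gerb.AutRep x (Gerb.ptsGrp U G)) : Flat G.hom ∧ LocallyOfFinitePresentation G.hom := by
  obtain ⟨h1, h2, -⟩ := section_props (isDM_of_repByAlgSp (repByAlgSp_overCat U)).1 h𝒳 π hπ x e
  have hE := isEquivOver_totFp x G r h𝒳.isStack.1 π e
  have key : ∀ {Q : MorphismProperty Scheme.{u}}, RepByAlgSpWith (AlgSp.LocP Q) x → Q G.hom := fun {Q} h =>
    left_of_repByAlgSpWith_overMap (proj G) (repByAlgSpWith_equiv_comp _ hE (repByAlgSpWith_fpFst x h))
  exact ⟨key h1, key h2⟩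

end GrothLib.AlgSt.Section
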