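import Groth.Agent.Lib.AlgSt.Gerbe.Props
import Groth.Agent.Lib.AlgSt.Gerbe.AutScheme
import Groth.Agent.Lib.AlgSt.IsoNat.Bald.Main
import Groth.Agent.Lib.BGAtlas.BGSmooth
import Groth.Agent.Lib.GrpSchField.SepPoint
import Groth.Agent.S5038
import Groth.Agent.S16720

/-!
# A gerbe over a strictly henselian local ring has an object over the base
-/

set_option backward.isDefEq.respectTransparency false
set_option backward.isDefEq.respectTransparency.types false

universe u

open CategoryTheory CategoryTheory.Limits AlgebraicGeometry MonoidalCategory CartesianMonoidalCategory MonObj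

namespace GrothLib.AlgSt.Section

open _root_.AlgSt GrothLib.FibCat GrothLib.AlgSt

variable {S : Scheme.{u}}

/-- The structure morphism of a scheme smooth over the terminal category is smooth. -/
theorem smooth_hom_of_rep {V : Over S} (y : _root_.FibCat.overCat V ⥤ᵇ _root_.FibCat.selfOver (Over S))
    (hy : RepByAlgSpWith (AlgSp.LocP @Smooth) y) : Smooth V.hom := by
  obtain ⟨G, hG, -, -⟩ := IsEquivOver.symm (GrothLib.BGAtlas.isEquivOver_toSelf_terminal (S := S))
  have h1 := repByAlgSpWith_comp_equiv G hG hy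
  have h2 := repByAlgSpWith_of_iso (GrothLib.FibCat.isoOverMap (BasedFunctor.comp y G)) h1
  have h3 : Smooth (sliceHom (BasedFunctor.comp y G)).left := left_of_repByAlgSpWith_overMap _ h2
  rw [← Over.w (sliceHom (BasedFunctor.comp y G)), show (𝟙_ (Over S)).hom = 𝟙 S from rfl]
  exact (Category.comp_id (sliceHom (BasedFunctor.comp y G)).left).symm ▸ h3

theorem nonempty_fiber_of_gerbe (R : Type u) [CommRing R] [HenselianLocalRing R]
    [IsSepClosed (IsLocalRing.ResidueField R)] (ℋ : _root_.AlgSt.Cat (Spec (CommRingCat.of R)))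
    (hℋ : IsAlgStack Scheme.fppfPrecoverage ℋ)
    (hg : Gerb.IsGerbeOver (AlgSp.J (Spec (CommRingCat.of R))) (_root_.FibCat.toSelf ℋ)) :
    Nonempty (ℋ.p.Fiber (Over.mk (𝟙 (Spec (CommRingCat.of R))))) := by
  have hS : IsAlgStack Scheme.fppfPrecoverage (_root_.FibCat.selfOver (Over (Spec (CommRingCat.of R)))) :=
    (isDM_of_repByAlgSp repByAlgSp_selfOver).1
  obtain ⟨U, V, x, y, h, -, hxs, hxu, hys, hh⟩ :=
    (Groth.Agent.S16720.result _ ℋ _ hℋ hS (_root_.FibCat.toSelf ℋ) hg).2
  have : Smooth h.left := GrothLib.AlgSt.left_of_locP_yon hh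
  have : Smooth V.hom := smooth_hom_of_rep y hys
  have : Smooth U.hom := by rw [← Over.w h]; infer_instance
  let res := Spec.map (CommRingCat.ofHom (IsLocalRing.residue R))
  let o₁ : (_root_.FibCat.selfOver (Over (Spec (CommRingCat.of R)))).obj := Over.mk res
  obtain ⟨R₁, hR₁, hlift⟩ := GrothLib.Stk.exists_local_lift (_root_.FibCat.toSelf ℋ) hg.1 o₁ (U := Over.mk res) rfl
  obtain ⟨W, c, hc, -, -, hcs⟩ := exists_family_of_mem_J hR₁
  have p : ↥(Over.mk res).left := IsLocalRing.closedPoint (IsLocalRing.ResidueField R)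
  obtain ⟨w, -⟩ := hcs p
  obtain ⟨a, g, hga⟩ := hlift (c p) (hc p)
  have ha : ℋ.p.obj a = W p :=
    ((_root_.FibCat.toSelf ℋ).w_obj a).symm.trans
      (IsHomLift.domain_eq (_root_.FibCat.selfOver (Over (Spec (CommRingCat.of R)))).p (c p) g)
  obtain ⟨R₂, hR₂, hlift₂⟩ := GrothLib.IsoNat.Bald.locally_val hℋ.isStack hxs hxu a
  obtain ⟨W', c', hc', -, -, hcs'⟩ := exists_family_of_mem_J
    ((AlgSp.J (Spec (CommRingCat.of R))).pullback_stable (eqToHom ha.symm) hR₂)
  obtain ⟨w', -⟩ := hcs' w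
  obtain ⟨⟨T, t⟩, κ, hκ⟩ := hlift₂ _ (hc' w)
  obtain rfl : W' w = T :=
    (IsHomLift.domain_eq ℋ.p (c' w ≫ eqToHom ha.symm) κ).symm.trans (x.w_obj (Over.mk t))
  let l : (W' w).left ⟶ pullback U.hom res :=
    pullback.lift t.left ((c' w).left ≫ (c p).left) (by
      rw [Category.assoc, Over.w t]
      exact ((congrArg ((c' w).left ≫ ·) (Over.w (c p))).trans (Over.w (c' w))).symm)
  have : Nonempty ↥(pullback U.hom res) := ⟨l w'⟩
  obtain ⟨s, hs⟩ := GrothLib.GrpSchField.exists_section_of_smooth (pullback.snd U.hom res)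
  obtain ⟨σ, hσ, -⟩ := Groth.Agent.S5038.result R U.hom (s ≫ pullback.fst U.hom res)
    (by rw [Category.assoc, pullback.condition, ← Category.assoc, hs, Category.id_comp])
  let q : Over.mk (𝟙 (Spec (CommRingCat.of R))) ⟶ U := Over.homMk σ hσ
  exact ⟨⟨x.obj (Over.mk q), x.w_obj (Over.mk q)⟩⟩

end GrothLib.AlgSt.Section
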