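import Groth.Agent.Lib.AlgSt.Gerbe.AutScheme
import Groth.Agent.Lib.AlgSt.InertiaDiag

/-!
# The automorphism group scheme as the pullback of the inertia
-/

set_option backward.isDefEq.respectTransparency false
set_option backward.isDefEq.respectTransparency.types false

universe u

open CategoryTheory CategoryTheory.Limits AlgebraicGeometry Opposite

namespace GrothLib.AlgSt.Section

open _root_.AlgSt GrothLib.FibCat GrothLib.AlgSt GrothLib.AlgSp

variable {S : Scheme.{u}} {U : Over S} {𝒳 : _root_.AlgSt.Cat S} (x : _root_.FibCat.overCat U ⥤ᵇ 𝒳)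
  (G : Over U.left) [GrpObj G] (r : Gerb.AutRep x (Gerb.ptsGrp U G))

/-- The map to the inertia. -/
noncomputable def totInertia : _root_.FibCat.overCat (tot G) ⥤ᵇ _root_.FibCat.inertia (_root_.FibCat.toSelf 𝒳) where
  toFunctor :=
    { obj := fun d => ⟨x.obj ((_root_.AlgSt.overMap (proj G)).obj d), autIso x (r.iso _ (pnt G d)), by
        have h : 𝒳.p.IsHomLift (𝟙 (𝒳.p.obj (x.obj ((_root_.AlgSt.overMap (proj G)).obj d))))
          (autIso x (r.iso _ (pnt G d))).hom := (r.iso _ (pnt G d)).hom.2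
        change 𝒳.p.map _ = 𝟙 _
        have := h
        simpa using IsHomLift.fac' 𝒳.p (𝟙 (𝒳.p.obj (x.obj ((_root_.AlgSt.overMap (proj G)).obj d))))
          (autIso x (r.iso _ (pnt G d))).hom⟩
      map := fun {d d'} φ => ⟨x.map ((_root_.AlgSt.overMap (proj G)).map φ), by
        have h := r.natural ((_root_.AlgSt.overMap (proj G)).map φ) (pnt G d')
        rw [pnt_map G φ] at h
        exact h⟩
      map_id := fun d => _root_.FibCat.InertiaObj.Hom.ext
        ((congrArg x.map ((_root_.AlgSt.overMap (proj G)).toFunctor.map_id d)).trans (x.toFunctor.map_id _))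
      map_comp := fun f g => _root_.FibCat.InertiaObj.Hom.ext
        ((congrArg x.map ((_root_.AlgSt.overMap (proj G)).toFunctor.map_comp f g)).trans (x.toFunctor.map_comp _ _)) }
  w := (BasedFunctor.comp (_root_.AlgSt.overMap (proj G)) x).w

/-- The comparison with the fibre product. -/
noncomputable def totPull : _root_.FibCat.overCat (tot G) ⥤ᵇ
    _root_.FibCat.fp x (_root_.FibCat.inertiaToBase (_root_.FibCat.toSelf 𝒳)) :=
  _root_.FibCat.fpLift (_root_.AlgSt.overMap (proj G)) (totInertia x G r)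
    (natIsoOfComponents (fun d => Iso.refl _) (fun d => IsHomLift.id ((BasedFunctor.comp (_root_.AlgSt.overMap (proj G)) x).w_obj d))
      (fun φ => (Category.comp_id _).trans (Category.id_comp _).symm))

theorem isEquivOver_totPull (h𝒳 : _root_.FibCat.IsFibGrpd 𝒳.p) :
    _root_.FibCat.IsEquivOver (totPull x G r) := by
  refine FFEssSurjOver.isEquivOver ⟨⟨fun {d d'} ψ => ?_⟩, ⟨fun {d d' φ φ'} h => ?_⟩, fun η => ?_⟩
  · let T := (_root_.AlgSt.overMap (proj G)).obj d
    let T' := (_root_.AlgSt.overMap (proj G)).obj d'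
    let φ : T ⟶ T' := ψ.hom.fst
    let χ : x.obj T ⟶ x.obj T' := ψ.hom.snd.hom
    have hw : x.map φ ≫ 𝟙 _ = 𝟙 _ ≫ χ := Fp.w ψ
    rw [Category.comp_id, Category.id_comp] at hw
    have hc2 : (autIso x (r.iso T (pnt G d))).hom ≫ χ = χ ≫ (autIso x (r.iso T' (pnt G d'))).hom := ψ.hom.snd.comm
    rw [← hw] at hc2
    have hn : (autIso x (r.iso T ((Gerb.ptsGrp U G).map φ.op (pnt G d')))).hom ≫ x.map φ =
        x.map φ ≫ (autIso x (r.iso T' (pnt G d'))).hom := r.natural φ (pnt G d')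
    have hlift : ∀ α : Gerb.AutO (x.obj T), 𝒳.p.IsHomLift (𝟙 T.left) (autIso x α).hom := fun α => by
      have h : 𝒳.p.IsHomLift (𝟙 (𝒳.p.obj (x.obj T))) (autIso x α).hom := α.hom.2
      exact isHomLift_id_of_eq 𝒳.p (R := 𝒳.p.obj (x.obj T)) _ (Or.inl (x.w_obj T)) (h := h)
    have h1 : (_root_.FibCat.overCat U).p.IsHomLift φ.left φ := IsHomLift.map (_root_.FibCat.overCat U).p φ
    have h1' : 𝒳.p.IsHomLift φ.left (x.map φ) := BasedFunctor.preserves_isHomLift x _ _
    have ha := hlift (r.iso T ((Gerb.ptsGrp U G).map φ.op (pnt G d')))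
    have hb := hlift (r.iso T (pnt G d))
    have he : (autIso x (r.iso T ((Gerb.ptsGrp U G).map φ.op (pnt G d')))).hom =
        (autIso x (r.iso T (pnt G d))).hom :=
      IsFibGrpd.hom_ext h𝒳 (𝟙 T.left) φ.left (x.map φ) (hn.trans hc2.symm)
    have hp : (Gerb.ptsGrp U G).map φ.op (pnt G d') = pnt G d :=
      (r.iso T).injective (Aut.ext (Functor.Fiber.hom_ext he))
    have hc : φ.left ≫ d'.hom = d.hom := Over.OverMorphism.ext (congrArg CommaMorphism.left hp :)
    refine ⟨Over.homMk φ.left hc, Fp.hom_ext (Over.OverMorphism.ext rfl) (_root_.FibCat.InertiaObj.Hom.ext ?_)⟩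
    change x.map ((_root_.AlgSt.overMap (proj G)).map (Over.homMk φ.left hc)) = χ
    rw [show (_root_.AlgSt.overMap (proj G)).map (Over.homMk φ.left hc) = φ from Over.OverMorphism.ext rfl, hw]
  · exact Over.OverMorphism.ext (congrArg (fun t => CommaMorphism.left t.hom.fst) h)
  · let T := η.obj.fst
    let q := η.obj.snd
    let β : x.obj T ≅ q.pt := η.obj.iso
    have hβ : 𝒳.p.IsHomLift (𝟙 T.left) β.hom := Fp.iso_lift η
    have hβ' := isHomLift_id_inv 𝒳.p (R := T.left) β
    let a : x.obj T ≅ x.obj T := β ≪≫ q.aut ≪≫ β.symm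
    have hq : 𝒳.p.map q.aut.hom = 𝟙 _ := q.map_aut
    have ha' : 𝒳.p.IsHomLift (𝟙 (𝒳.p.obj (x.obj T))) a.hom := by
      have hz : 𝒳.p.map a.hom = 𝟙 _ := by
        change 𝒳.p.map (β.hom ≫ q.aut.hom ≫ β.inv) = _
        rw [Functor.map_comp, Functor.map_comp, hq, Category.id_comp, ← Functor.map_comp, Iso.hom_inv_id,
          CategoryTheory.Functor.map_id]
      rw [← hz]
      exact IsHomLift.map 𝒳.p a.hom
    have ha'' := isHomLift_id_inv 𝒳.p (R := 𝒳.p.obj (x.obj T)) a
    let α : Gerb.AutO (x.obj T) := ⟨⟨a.hom, ha'⟩, ⟨a.inv, ha''⟩, Functor.Fiber.hom_ext a.hom_inv_id,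
      Functor.Fiber.hom_ext a.inv_hom_id⟩
    let p : (Over.iteratedSliceForward U).obj T ⟶ G := (r.iso T).symm α
    let d : (_root_.FibCat.overCat (tot G)).obj := Over.mk (Over.homMk p.left (by
      change p.left ≫ G.hom ≫ U.hom = T.left.hom
      rw [← Category.assoc, Over.w p]
      exact Over.w T.hom) : T.left ⟶ tot G)
    let o := (totPull x G r).obj d
    let i₁ : (_root_.AlgSt.overMap (proj G)).obj d ≅ T :=
      Over.isoMk (Iso.refl T.left) ((Category.id_comp _).trans
        (show T.hom = d.hom ≫ proj G from Over.OverMorphism.ext (Over.w p).symm))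
    have hpnt : (Gerb.ptsGrp U G).map i₁.hom.op p = pnt G d :=
      Over.OverMorphism.ext (Category.id_comp p.left)
    have hn := r.natural i₁.hom p
    rw [hpnt, show r.iso T p = α from (r.iso T).apply_symm_apply α] at hn
    have hnA : (autIso x (r.iso ((_root_.AlgSt.overMap (proj G)).obj d) (pnt G d))).hom ≫ x.map i₁.hom =
        x.map i₁.hom ≫ β.hom ≫ q.aut.hom ≫ β.inv := hn
    let A := (autIso x (r.iso ((_root_.AlgSt.overMap (proj G)).obj d) (pnt G d)))
    have hnA' : A.hom ≫ x.map i₁.hom = x.map i₁.hom ≫ β.hom ≫ q.aut.hom ≫ β.inv := hnA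
    let i₂ : o.obj.snd ≅ q :=
      { hom := ⟨x.map i₁.hom ≫ β.hom, by
          change A.hom ≫ x.map i₁.hom ≫ β.hom = (x.map i₁.hom ≫ β.hom) ≫ q.aut.hom
          rw [← Category.assoc A.hom, hnA]
          simp⟩
        inv := ⟨β.inv ≫ x.map i₁.inv, by
          change q.aut.hom ≫ β.inv ≫ x.map i₁.inv = (β.inv ≫ x.map i₁.inv) ≫ A.hom
          rw [← cancel_epi β.hom, ← cancel_mono (x.map i₁.hom)]
          simp only [Category.assoc, Iso.hom_inv_id_assoc]
          rw [hnA', ← x.map_comp, Iso.inv_hom_id, x.map_id, Category.comp_id, ← x.map_comp_assoc, Iso.inv_hom_id, x.map_id,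
            Category.id_comp]⟩
        hom_inv_id := _root_.FibCat.InertiaObj.Hom.ext (by
          change (x.map i₁.hom ≫ β.hom) ≫ β.inv ≫ x.map i₁.inv = 𝟙 _
          rw [Category.assoc, β.hom_inv_id_assoc, ← x.map_comp, Iso.hom_inv_id, x.map_id])
        inv_hom_id := _root_.FibCat.InertiaObj.Hom.ext (by
          change (β.inv ≫ x.map i₁.inv) ≫ x.map i₁.hom ≫ β.hom = 𝟙 _
          rw [Category.assoc, ← x.map_comp_assoc, Iso.inv_hom_id, x.map_id, Category.id_comp, β.inv_hom_id]) }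
    refine ⟨d, Fp.isoMk (a := o) (b := η) i₁ i₂ ?_, (Fp.isHomLift_iff _ _).2 ?_⟩
    · change x.map i₁.hom ≫ β.hom = 𝟙 _ ≫ x.map i₁.hom ≫ β.hom
      rw [Category.id_comp]
    · exact IsHomLift.of_fac' _ _ _ rfl rfl (by simp [i₁]; rfl)

/-- A property of the diagonal descends to the automorphism group scheme. -/
theorem repByAlgSpWith_proj_of_diag {P : MorphismProperty (AlgSp.Sp S)} (h𝒳 : _root_.FibCat.IsFibGrpd 𝒳.p)
    (hP : RepByAlgSpWith P (_root_.FibCat.diag (_root_.FibCat.toSelf 𝒳)))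
    (r : Gerb.AutRep x (Gerb.ptsGrp U G)) : RepByAlgSpWith P (_root_.AlgSt.overMap (proj G)) :=
  repByAlgSpWith_equiv_comp (totPull x G r) (isEquivOver_totPull x G r h𝒳) (repByAlgSpWith_fpFst x
    ((repByAlgSpWith_inertiaToBase_iff _).2 (repByAlgSpWith_fpFst (_root_.FibCat.diag _) hP)))

end GrothLib.AlgSt.Section
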