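import Groth.Agent.Lib.AlgSt.Gerbe.Section
import Groth.Agent.Lib.AlgSt.OfCompCover
import Groth.Agent.Lib.Stk.Gerbe
import Groth.Prelude.Def_StGerb

/-!
# Sections of gerbes over algebraic spaces
-/

set_option backward.isDefEq.respectTransparency false
set_option backward.isDefEq.respectTransparency.types false

universe u

open CategoryTheory CategoryTheory.Limits AlgebraicGeometry Opposite

namespace GrothLib.AlgSt.Section

open _root_.AlgSt GrothLib.FibCat GrothLib.AlgSt GrothLib.AlgSp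

variable {S : Scheme.{u}} {𝒳 : _root_.AlgSt.Cat S} {U : AlgSp.Space S}

/-- A section of a gerbe over a space is locally surjective and unambiguous. -/
theorem locSec_of_gerbe (hG : _root_.FibCat.IsFibGrpd 𝒳.p) (π : 𝒳 ⥤ᵇ ofSp U.obj)
    (hπ : Gerb.IsGerbeOver (AlgSp.J S) π) (x : ofSp U.obj ⥤ᵇ 𝒳)
    (e : BasedFunctor.comp x π ≅ BasedFunctor.id (ofSp U.obj)) : LocSec x where
  loc a := by
    let o := π.obj a
    have ho : (ofSp U.obj).p.obj o = 𝒳.p.obj a := π.w_obj a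
    have hxo : 𝒳.p.obj (x.obj o) = 𝒳.p.obj a := (x.w_obj o).trans ho
    have hb : (ofSp U.obj).p.IsHomLift (𝟙 (𝒳.p.obj a)) (GrothLib.FibCat.isoApp e o).hom := isHomLift_isoApp e ho
    obtain ⟨R, hR, h⟩ := GrothLib.Stk.Gerbe.exists_local_hom hπ.2 hxo (GrothLib.FibCat.isoApp e o).hom hb
    refine ⟨R, hR, fun V f hf => ?_⟩
    obtain ⟨x₀, φ, ψ, hφ, hψ, -⟩ := h f hf
    obtain ⟨o', κ, hκ⟩ := IsFibGrpd.exists_lift_of_eq (isFibGrpd_ofSp U.obj) ho f
    have := hκ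
    have : 𝒳.p.IsHomLift f (x.map κ) := BasedFunctor.preserves_isHomLift x _ _
    obtain ⟨θ, hθ, -⟩ := IsFibGrpd.exists_iso_of_lifts hG f φ (x.map κ)
    exact ⟨o', θ.hom ≫ ψ, IsHomLift.comp_lift_id_left' 𝒳.p V θ.hom f ψ⟩
  sep o o' m hm := by
    have := hm
    have : (ofSp U.obj).p.IsHomLift (𝟙 ((ofSp U.obj).p.obj o)) (π.map m) := BasedFunctor.preserves_isHomLift π _ _
    have h₁ : (ofSp U.obj).p.IsHomLift (𝟙 ((ofSp U.obj).p.obj o)) (GrothLib.FibCat.isoApp e o).inv :=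
      have := isHomLift_isoApp e (x := o) rfl; isHomLift_id_inv _ _
    have ho' : (ofSp U.obj).p.obj o' = (ofSp U.obj).p.obj o :=
      ((x.w_obj o').symm.trans (IsHomLift.codomain_eq 𝒳.p (𝟙 ((ofSp U.obj).p.obj o)) m) :)
    have h₂ : (ofSp U.obj).p.IsHomLift (𝟙 ((ofSp U.obj).p.obj o)) (GrothLib.FibCat.isoApp e o').hom :=
      isHomLift_isoApp e ho'
    let k : o ⟶ o' := (GrothLib.FibCat.isoApp e o).inv ≫ π.map m ≫ (GrothLib.FibCat.isoApp e o').hom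
    have hk : (ofSp U.obj).p.IsHomLift (𝟙 ((ofSp U.obj).p.obj o)) k := by
      have : (ofSp U.obj).p.IsHomLift (𝟙 ((ofSp U.obj).p.obj o)) (π.map m ≫ (GrothLib.FibCat.isoApp e o').hom) :=
        IsHomLift.comp_lift_id_right' _ _ _ ((ofSp U.obj).p.obj o) _
      exact IsHomLift.comp_lift_id_right' _ _ _ ((ofSp U.obj).p.obj o) _
    let A : (ofSp U.obj).p.Fiber ((ofSp U.obj).p.obj o) := Functor.Fiber.mk rfl
    let B : (ofSp U.obj).p.Fiber ((ofSp U.obj).p.obj o) := Functor.Fiber.mk ho'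
    let kf : A ⟶ B := ⟨k, hk⟩
    exact congrArg Subtype.val (((isFibSet_ofPsh U.obj.obj).2 ((ofSp U.obj).p.obj o)).eq_of_hom kf)

theorem faithful_of_space (x : ofSp U.obj ⥤ᵇ 𝒳) : x.toFunctor.Faithful where
  map_injective {o o'} f g h := by
    refine Stk.EltObj.hom_ext ?_
    have hf := IsHomLift.map (ofSp U.obj).p f
    have hg := IsHomLift.map (ofSp U.obj).p g
    have h1 : 𝒳.p.IsHomLift ((ofSp U.obj).p.map f) (x.map f) := BasedFunctor.preserves_isHomLift x _ _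
    have h2 : 𝒳.p.IsHomLift ((ofSp U.obj).p.map g) (x.map g) := BasedFunctor.preserves_isHomLift x _ _
    change (ofSp U.obj).p.map f = (ofSp U.obj).p.map g
    rw [IsHomLift.fac 𝒳.p ((ofSp U.obj).p.map f) (x.map f), IsHomLift.fac 𝒳.p ((ofSp U.obj).p.map g) (x.map g)]
    exact congrArg (fun t => eqToHom (x.w_obj o).symm ≫ 𝒳.p.map t ≫ eqToHom (x.w_obj o')) h

theorem repByAlgSp1_of_space (h𝒳 : IsAlgStack Scheme.fppfPrecoverage 𝒳) (x : ofSp U.obj ⥤ᵇ 𝒳) : RepByAlgSp1 x :=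
  have := faithful_of_space x
  repByAlgSp1_of_faithful (isDM_of_repByAlgSp (repByAlgSp_ofSp U.property)).1 h𝒳 x

theorem locSec_props (h𝒳 : IsAlgStack Scheme.fppfPrecoverage 𝒳) {x : ofSp U.obj ⥤ᵇ 𝒳} (h : LocSec x) :
    RepByAlgSpWith (AlgSp.LocP @Flat) x ∧ RepByAlgSpWith (AlgSp.LocP @LocallyOfFinitePresentation) x ∧
      RepByAlgSpWith AlgSp.IsSurjectiveMor x :=
  have h1 := repByAlgSp1_of_space h𝒳 x
  have hP := h.repByAlgSpWith h𝒳 h1
  ⟨repByAlgSpWith_mono (fun _ _ _ _ _ ha => locP_mono (fun _ _ _ hc => hc.1) ha) hP,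
    repByAlgSpWith_mono (fun _ _ _ _ _ ha => locP_mono (fun _ _ _ hc => hc.2) ha) hP,
    (isSurjective_iff_repByAlgSpWith (isFibGrpd_ofSp U.obj) h𝒳.isStack.1 x h1).1 (h.isSurjective h𝒳)⟩

end GrothLib.AlgSt.Section
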