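import Groth.Agent.Lib.AlgSt.Gerbe.OfSection
import Groth.Agent.Lib.AlgSt.DescRep
import Groth.Agent.Lib.AlgSt.LocQChart
import Groth.Agent.Lib.AlgSt.DiagMor

/-!
# Sections of gerbes over algebraic stacks; diagonals of gerbes
-/

set_option backward.isDefEq.respectTransparency false
set_option backward.isDefEq.respectTransparency.types false

universe u

open CategoryTheory CategoryTheory.Limits AlgebraicGeometry Opposite

namespace GrothLib.AlgSt.Section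

open _root_.AlgSt GrothLib.FibCat GrothLib.AlgSt GrothLib.AlgSp

variable {S : Scheme.{u}} {𝒵 𝒲 : _root_.AlgSt.Cat S}

theorem faithful_of_section {π : 𝒲 ⥤ᵇ 𝒵} {s : 𝒵 ⥤ᵇ 𝒲} (e : BasedFunctor.comp s π ≅ BasedFunctor.id 𝒵) :
    s.toFunctor.Faithful where
  map_injective {a b} φ ψ h := by
    have hφ := e.hom.toNatTrans.naturality φ
    have hψ := e.hom.toNatTrans.naturality ψ
    change π.map (s.map φ) ≫ e.hom.app b = e.hom.app a ≫ φ at hφ
    change π.map (s.map ψ) ≫ e.hom.app b = e.hom.app a ≫ ψ at hψ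
    rw [h] at hφ
    exact (cancel_epi (e.hom.app a)).1 (hφ.symm.trans hψ)

/-- A section of a gerbe over an algebraic stack is flat, locally of finite presentation and surjective. -/
theorem section_props (h𝒵 : IsAlgStack Scheme.fppfPrecoverage 𝒵) (h𝒲 : IsAlgStack Scheme.fppfPrecoverage 𝒲)
    (π : 𝒲 ⥤ᵇ 𝒵) (hπ : Gerb.IsGerbeOver (AlgSp.J S) π) (s : 𝒵 ⥤ᵇ 𝒲)
    (e : BasedFunctor.comp s π ≅ BasedFunctor.id 𝒵) :
    RepByAlgSpWith (AlgSp.LocP @Flat) s ∧ RepByAlgSpWith (AlgSp.LocP @LocallyOfFinitePresentation) s ∧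
      RepByAlgSpWith AlgSp.IsSurjectiveMor s := by
  obtain ⟨V, y₀, hy, hys⟩ := h𝒵.atlas
  let U : AlgSp.Space S := ⟨(AlgSp.yon S).obj V, AlgSp.IsAlgSpace.yon_obj V⟩
  let y : ofSp U.obj ⥤ᵇ 𝒵 := BasedFunctor.comp (toOverCat V) y₀
  have hy₁ : RepByAlgSpWith (AlgSp.LocP @Smooth) y :=
    repByAlgSpWith_equiv_comp _ (isEquivOver_toOverCat V) hy
  have hy₂ : RepByAlgSpWith AlgSp.IsSurjectiveMor y :=
    repByAlgSpWith_equiv_comp _ (isEquivOver_toOverCat V) hys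
  have hU : IsAlgStack Scheme.fppfPrecoverage (ofSp U.obj) := (isDM_of_repByAlgSp (repByAlgSp_ofSp U.property)).1
  let π' := _root_.FibCat.fpFst y π
  let z := _root_.FibCat.fpSnd y π
  have h𝒲' : IsAlgStack Scheme.fppfPrecoverage (_root_.FibCat.fp y π) :=
    isAlgStack_fp h𝒵.isStack h𝒵.diag hU h𝒲 y π
  have hπ' : Gerb.IsGerbeOver (AlgSp.J S) π' :=
    GrothLib.Stk.Gerbe.isGerbeOver_fpFst π y h𝒵.isStack.1 hU.isStack.1 hπ
  let K := _root_.FibCat.fpFst z s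
  let N := BasedFunctor.comp (Fp.pasteComp s π y)
    (BasedFunctor.comp (Fp.congr (Iso.refl y) e) (_root_.FibCat.fpFst y (BasedFunctor.id 𝒵)))
  have hN : _root_.FibCat.IsEquivOver N := IsEquivOver.comp (Fp.isEquivOver_pasteComp s π y)
    (IsEquivOver.comp (Fp.isEquivOver_congr _ _) (Fp.isEquivOver_fpFst_of_isEquivOver y (IsEquivOver.refl 𝒵)))
  have hNK : N = BasedFunctor.comp K π' := rfl
  obtain ⟨G, hG, ⟨η⟩, ⟨ε⟩⟩ := IsEquivOver.symm hN
  have e' : BasedFunctor.comp (BasedFunctor.comp G K) π' ≅ BasedFunctor.id (ofSp U.obj) := by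
    exact (show BasedFunctor.comp G N ≅ BasedFunctor.id (ofSp U.obj) from ε)
  have hx := locSec_props h𝒲' (locSec_of_gerbe h𝒲'.isStack.1 π' hπ' (BasedFunctor.comp G K) e')
  have hKi : K ≅ BasedFunctor.comp N (BasedFunctor.comp G K) :=
    (whiskerRightIso (show BasedFunctor.comp N G ≅ BasedFunctor.id _ from η) K).symm
  have hs1 : RepByAlgSp1 s := have := faithful_of_section e; repByAlgSp1_of_faithful h𝒵 h𝒲 s
  have hfl : RepByAlgSpWith (AlgSp.LocP @Flat) z ∧ RepByAlgSpWith (AlgSp.LocP @LocallyOfFinitePresentation) z ∧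
      RepByAlgSpWith AlgSp.IsSurjectiveMor z := by
    refine ⟨repByAlgSpWith_fpSnd π ?_, repByAlgSpWith_fpSnd π ?_, repByAlgSpWith_fpSnd π hy₂⟩
    · exact repByAlgSpWith_mono (fun _ _ _ _ _ ha => locP_mono (fun _ _ c (hc : Smooth c) => inferInstanceAs (Flat c)) ha) hy₁
    · exact repByAlgSpWith_mono (fun _ _ _ _ _ ha => locP_mono
        (fun _ _ c (hc : Smooth c) => inferInstanceAs (LocallyOfFinitePresentation c)) ha) hy₁
  have hz : LiftsFppf z := liftsFppf_of_repByAlgSpWith z hfl.1 hfl.2.1 hfl.2.2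
  have hd : ∀ {P : MorphismProperty (AlgSp.Sp S)}, IsoInvariant P → DescendsToSchemes P →
      RepByAlgSpWith P (BasedFunctor.comp G K) → RepByAlgSpWith P s := fun hP hD h =>
    repByAlgSpWith_of_fpFst hP hD hs1 hz (repByAlgSpWith_of_iso hKi.symm (repByAlgSpWith_equiv_comp N hN h))
  have := GrothLib.AlgSp.descendsAlong_flat_fpqc.{u}
  refine ⟨hd isoInvariant_locP (descendsToSchemes_of_isLocalOnBase
      (GrothLib.SpQuot.isLocalOnBase_fppf_locP EtLocal.flat)) hx.1,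
    hd isoInvariant_locP (descendsToSchemes_of_isLocalOnBase isLocalOnBase_fppf_locP_lfp) hx.2.1, ?_⟩
  refine (isSurjective_iff_repByAlgSpWith h𝒵.isStack.1 h𝒲.isStack.1 s hs1).1 fun q => ?_
  obtain ⟨p, rfl⟩ := (isSurjective_iff_repByAlgSpWith h𝒲'.isStack.1 h𝒲.isStack.1 z
    (repByAlgSp1_of_repByAlgSpWith hfl.1)).2 hfl.2.2 q
  have hKs : IsSurjective K := (isSurjective_iff_repByAlgSpWith
    (Fp.isFibGrpd h𝒲'.isStack.1 h𝒵.isStack.1 h𝒲.isStack.1) h𝒲'.isStack.1 K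
    (repByAlgSp1_of_repByAlgSpWith
      (repByAlgSpWith_of_iso hKi.symm (repByAlgSpWith_equiv_comp N hN hx.1)))).2
    (repByAlgSpWith_of_iso hKi.symm (repByAlgSpWith_equiv_comp N hN hx.2.2))
  obtain ⟨w, rfl⟩ := hKs p
  refine ⟨Points.map (_root_.FibCat.fpSnd z s) w, ?_⟩
  rw [← GrothLib.AlgSt.points_map_comp, ← GrothLib.AlgSt.points_map_comp]
  exact (points_map_congr (_root_.FibCat.fpIso z s) w).symm

variable {𝒳 𝒴 : _root_.AlgSt.Cat S}

/-- The diagonal of a gerbe is flat, locally of finite presentation and surjective. -/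
theorem diag_props (h𝒳 : IsAlgStack Scheme.fppfPrecoverage 𝒳) (h𝒴 : IsAlgStack Scheme.fppfPrecoverage 𝒴)
    (f : 𝒳 ⥤ᵇ 𝒴) (hf : Gerb.IsGerbeOver (AlgSp.J S) f) :
    RepByAlgSpWith (AlgSp.LocP @Flat) (_root_.FibCat.diag f) ∧
      RepByAlgSpWith (AlgSp.LocP @LocallyOfFinitePresentation) (_root_.FibCat.diag f) ∧
      RepByAlgSpWith AlgSp.IsSurjectiveMor (_root_.FibCat.diag f) :=
  section_props h𝒳 (isAlgStack_fp h𝒴.isStack h𝒴.diag h𝒳 h𝒳 f f) (_root_.FibCat.fpFst f f)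
    (GrothLib.Stk.Gerbe.isGerbeOver_fpFst f f h𝒴.isStack.1 h𝒳.isStack.1 hf) (_root_.FibCat.diag f) (Iso.refl _)

end GrothLib.AlgSt.Section
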