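import Groth.Agent.Lib.AlgSt.Gerbe.Props
import Groth.Agent.Lib.AlgSt.QCMor
import Groth.Agent.Lib.AlgSt.FpStack
import Groth.Agent.Lib.AlgSt.DiagFpMap

/-!
# Quasi-compactness and universal homeomorphy of gerbes
-/

set_option backward.isDefEq.respectTransparency false
set_option backward.isDefEq.respectTransparency.types false

universe v₄ u₄ v₃ u₃ v₂ u₂ v u

open CategoryTheory CategoryTheory.Functor

namespace GrothLib.Stk.Gerbe

open GrothLib.FibCat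

variable {C : Type u} [Category.{v} C] {J : GrothendieckTopology C}
variable {𝒳 : BasedCategory.{v₂, u₂} C} {𝒴 : BasedCategory.{v₃, u₃} C}

/-- The gerbe property only depends on the isomorphism class of the functor. -/
theorem isGerbeOver_of_iso {F F' : 𝒳 ⥤ᵇ 𝒴} (α : F ≅ F') (h : Gerb.IsGerbeOver J F) : Gerb.IsGerbeOver J F' := by
  constructor
  · intro y
    obtain ⟨R, hR, hl⟩ := h.1 y
    refine ⟨R, hR, fun V f hf => ?_⟩
    obtain ⟨x, g, hg⟩ := hl f hf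
    have hx : 𝒳.p.obj x = V := (F.w_obj x).symm.trans (IsHomLift.domain_eq 𝒴.p f g)
    have : 𝒴.p.IsHomLift (𝟙 V) (GrothLib.FibCat.isoApp α x).hom := isHomLift_isoApp α hx
    have := isHomLift_id_inv 𝒴.p (R := V) (GrothLib.FibCat.isoApp α x)
    exact ⟨x, (GrothLib.FibCat.isoApp α x).inv ≫ g, IsHomLift.comp_lift_id_left' 𝒴.p V _ f g⟩
  · intro x x' b hb
    have hx' : 𝒳.p.obj x' = 𝒳.p.obj x := base_eq (F := F') b (h := hb)
    have h1 : 𝒴.p.IsHomLift (𝟙 (𝒳.p.obj x)) (GrothLib.FibCat.isoApp α x).hom := isHomLift_isoApp α rfl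
    have h2 : 𝒴.p.IsHomLift (𝟙 (𝒳.p.obj x)) (GrothLib.FibCat.isoApp α x').hom := isHomLift_isoApp α hx'
    have := isHomLift_id_inv 𝒴.p (R := 𝒳.p.obj x) (GrothLib.FibCat.isoApp α x')
    have : 𝒴.p.IsHomLift (𝟙 (𝒳.p.obj x)) (b ≫ (GrothLib.FibCat.isoApp α x').inv) :=
      IsHomLift.comp_lift_id_left' 𝒴.p (𝒳.p.obj x) b (𝟙 _) _
    obtain ⟨R, hR, hl⟩ := h.2 x x'
      ((GrothLib.FibCat.isoApp α x).hom ≫ b ≫ (GrothLib.FibCat.isoApp α x').inv)
      (IsHomLift.comp_lift_id_left' 𝒴.p (𝒳.p.obj x) _ (𝟙 _) _)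
    refine ⟨R, hR, fun V f hf => ?_⟩
    obtain ⟨x₀, φ, ψ, hφ, hψ, e⟩ := hl f hf
    refine ⟨x₀, φ, ψ, hφ, hψ, ?_⟩
    have n1 : F.map φ ≫ (GrothLib.FibCat.isoApp α x).hom = (GrothLib.FibCat.isoApp α x₀).hom ≫ F'.map φ :=
      α.hom.toNatTrans.naturality φ
    have n2 : F.map ψ ≫ (GrothLib.FibCat.isoApp α x').hom = (GrothLib.FibCat.isoApp α x₀).hom ≫ F'.map ψ :=
      α.hom.toNatTrans.naturality ψ
    rw [← cancel_epi (GrothLib.FibCat.isoApp α x₀).hom, ← reassoc_of% n1, ← n2, ← e]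
    simp only [Category.assoc, Iso.inv_hom_id, Category.comp_id]

end GrothLib.Stk.Gerbe

namespace GrothLib.AlgSt.Section

open CategoryTheory.Limits AlgebraicGeometry Opposite _root_.AlgSt GrothLib.FibCat GrothLib.AlgSt GrothLib.AlgSp

variable {S : Scheme.{u}} {𝒳 𝒴 : _root_.AlgSt.Cat S}

theorem isUnivHomeo_of_gerbe (h𝒳 : IsAlgStack Scheme.fppfPrecoverage 𝒳)
    (h𝒴 : IsAlgStack Scheme.fppfPrecoverage 𝒴) (f : 𝒳 ⥤ᵇ 𝒴) (hf : Gerb.IsGerbeOver (AlgSp.J S) f) :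
    _root_.AlgSt.IsUnivHomeo Scheme.fppfPrecoverage f := fun _ hZ g =>
  isHomeomorph_points_map (isAlgStack_fp h𝒴.isStack h𝒴.diag hZ h𝒳 g f) hZ _
    (GrothLib.Stk.Gerbe.isGerbeOver_fpFst f g h𝒴.isStack.1 hZ.isStack.1 hf)

theorem isQuasiCompactMor_of_gerbe (h𝒳 : IsAlgStack Scheme.fppfPrecoverage 𝒳)
    (h𝒴 : IsAlgStack Scheme.fppfPrecoverage 𝒴) (f : 𝒳 ⥤ᵇ 𝒴) (hf : Gerb.IsGerbeOver (AlgSp.J S) f) :
    _root_.AlgSt.IsQuasiCompactMor Scheme.fppfPrecoverage f := fun 𝒵 hZ hZq g => by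
  have := compactSpace_points_of_isQuasiCompact hZ.isStack.1 hZq
  have : CompactSpace (Points (_root_.FibCat.fp g f)) :=
    (isUnivHomeo_of_gerbe h𝒳 h𝒴 f hf 𝒵 hZ g).homeomorph.symm.compactSpace
  exact (isQuasiCompact_iff_compactSpace (isAlgStack_fp h𝒴.isStack h𝒴.diag hZ h𝒳 g f)).2 this

theorem isQuasiCompactMor_diag_of_gerbe (h𝒳 : IsAlgStack Scheme.fppfPrecoverage 𝒳)
    (h𝒴 : IsAlgStack Scheme.fppfPrecoverage 𝒴) (f : 𝒳 ⥤ᵇ 𝒴) (hf : Gerb.IsGerbeOver (AlgSp.J S) f)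
    (hΔ : _root_.AlgSt.IsQuasiCompactMor Scheme.fppfPrecoverage (_root_.FibCat.diag (_root_.FibCat.toSelf 𝒳))) :
    _root_.AlgSt.IsQuasiCompactMor Scheme.fppfPrecoverage (_root_.FibCat.diag (_root_.FibCat.toSelf 𝒴)) := by
  let t := _root_.FibCat.toSelf 𝒴
  let t' := _root_.FibCat.toSelf 𝒳
  have gS : _root_.FibCat.IsFibGrpd (_root_.FibCat.selfOver (Over S)).p := GrothLib.FibCat.isFibGrpd_selfOver
  have gX := h𝒳.isStack.1
  have gY := h𝒴.isStack.1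
  let L := fpMapLeft f t (BasedFunctor.comp f t)
  let R := fpMapRight f t t
  have hL : Gerb.IsGerbeOver (AlgSp.J S) L := by
    refine GrothLib.Stk.Gerbe.isGerbeOver_of_comp_isEquivOver _
      (IsEquivOver.comp (Fp.isEquivOver_pasteComp f t (BasedFunctor.comp f t))
        (Fp.isEquivOver_symm (BasedFunctor.comp f t) (BasedFunctor.comp f t))) L ?_
    refine GrothLib.Stk.Gerbe.isGerbeOver_of_iso (fpMapLeftSquare f t (BasedFunctor.comp f t)).symm ?_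
    refine GrothLib.Stk.Gerbe.isGerbeOver_comp ?_ ?_ _ _
      (GrothLib.Stk.Gerbe.isGerbeOver_fpFst f _ gY ?_ hf)
      (GrothLib.Stk.Gerbe.isGerbeOver_of_isEquivOver ?_ ?_ _ (Fp.isEquivOver_symm _ _))
    · exact Fp.isFibGrpd (Fp.isFibGrpd gX gY gS) gX gY
    all_goals first | exact Fp.isFibGrpd gX gY gS | exact Fp.isFibGrpd gY gX gS
  have hR : Gerb.IsGerbeOver (AlgSp.J S) R := by
    refine GrothLib.Stk.Gerbe.isGerbeOver_of_comp_isEquivOver _ (Fp.isEquivOver_pasteComp f t t) R ?_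
    refine GrothLib.Stk.Gerbe.isGerbeOver_of_iso (fpMapRightSquare f t t).symm ?_
    exact GrothLib.Stk.Gerbe.isGerbeOver_fpFst f _ gY (Fp.isFibGrpd gY gY gS) hf
  let M := BasedFunctor.comp (Fp.congr (toSelfCompIso f) (toSelfCompIso f)) (BasedFunctor.comp L R)
  have hM : Gerb.IsGerbeOver (AlgSp.J S) M :=
    GrothLib.Stk.Gerbe.isGerbeOver_comp (Fp.isFibGrpd gX gX gS) (Fp.isFibGrpd gX gX gS) _ _
      (GrothLib.Stk.Gerbe.isGerbeOver_of_isEquivOver (Fp.isFibGrpd gX gX gS) (Fp.isFibGrpd gX gX gS) _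
        (Fp.isEquivOver_congr _ _))
      (GrothLib.Stk.Gerbe.isGerbeOver_comp (Fp.isFibGrpd gX gX gS) (Fp.isFibGrpd gY gX gS) L R hL hR)
  let F₁ := BasedFunctor.comp f (_root_.FibCat.diag t)
  let F₂ := BasedFunctor.comp (_root_.FibCat.diag t') M
  let i : F₂ ≅ F₁ := natIsoOfComponents
    (fun x => Fp.isoMk (a := F₂.obj x) (b := F₁.obj x) (Iso.refl _) (Iso.refl _) (by
      have h : (F₂.obj x).obj.iso.hom = (F₁.obj x).obj.iso.hom := selfOver_hom_ext _ _ (R := 𝒳.p.obj x)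
        (isHomLift_id_of_eq (_root_.FibCat.selfOver (Over S)).p _ (Or.inl (f.w_obj x)) (h := Fp.iso_lift (F₂.obj x)))
        (isHomLift_id_of_eq (_root_.FibCat.selfOver (Over S)).p _ (Or.inl (f.w_obj x)) (h := Fp.iso_lift (F₁.obj x)))
      change 𝒴.p.map (𝟙 _) ≫ (F₁.obj x).obj.iso.hom = (F₂.obj x).obj.iso.hom ≫ 𝒴.p.map (𝟙 _)
      rw [𝒴.p.map_id, 𝒴.p.map_id, ← h]
      exact (Category.id_comp _).trans (Category.comp_id _).symm))
    (fun x => (Fp.isHomLift_iff _ _).2 (IsHomLift.id (f.w_obj x)))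
    (fun {a b} φ => Fp.hom_ext ((Category.comp_id _).trans (Category.id_comp _).symm)
      ((Category.comp_id _).trans (Category.id_comp _).symm))
  have hP := isAlgStack_prod h𝒴 h𝒴
  have hP' := isAlgStack_prod h𝒳 h𝒳
  exact isQuasiCompactMor_of_surjective_comp h𝒳 h𝒴 hP f _ (isSurjective_of_gerbe f hf.1)
    (isQuasiCompactMor_of_iso i (isQuasiCompactMor_comp hP' hP hΔ (isQuasiCompactMor_of_gerbe hP' hP M hM)))

end GrothLib.AlgSt.Section
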